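import Groth.Agent.Variety.K424.IntSum
import Groth.Agent.Ega3B.PullTensor
import Groth.Agent.S0927
import Groth.Agent.S1525
import Groth.Agent.VarietyB.HHPush
import Groth.Agent.VarietyB.ProjForm

/-!
# The coefficient functional and higher direct images
-/

set_option autoImplicit false
universe u
open CategoryTheory CategoryTheory.Limits AlgebraicGeometry Opposite TopologicalSpace

namespace K424.PushCoef

open Groth.Agent Groth.Agent.Fga.ChiBasic Groth.Agent.Fga.PicMon Groth.Agent.Fdesc K424.IntCoef K424.CoefPoly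

variable {X Y : Scheme.{u}}

/-- `L₁^{n₁} ⊗ ⋯ ⊗ L_r^{n_r}`. -/
noncomputable abbrev tw {r : ℕ} (L : Fin r → X.Modules) (n : Fin r → ℕ) : X.Modules :=
  Curv2.tensorPows (Coh.structureModule X) r L n

theorem isInvertible_tw {r : ℕ} (L : Fin r → X.Modules) (hL : ∀ i, PicF.IsInvertible (L i)) (n : Fin r → ℕ) :
    PicF.IsInvertible (tw L n) := by
  induction r with
  | zero => exact LocGen.isInvertible_structureModule
  | succ r ih =>
    exact LocGen.isInvertible_tensorMod (ih _ (fun i => hL _) _) (LocGen.isInvertible_tensorPow (hL _) _)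

theorem isFinLocFree_of_isInvertible {L : X.Modules} (hL : PicF.IsInvertible L) : FlatMod.IsFinLocFree L := by
  intro x
  obtain ⟨U, hU, ⟨e⟩⟩ := hL x
  refine ⟨U, 1, hU, ⟨e ≪≫ ?_⟩⟩
  exact (Limits.coproductUniqueIso (fun _ : Fin 1 => Coh.structureModule (↑U : Scheme.{u}))).symm

theorem mc_tw {r : ℕ} (L : Fin r → X.Modules) (n : Fin r → ℕ) : mc (tw L n) = ∏ i, mc (L i) ^ n i := by
  rw [Fga.SnapperTwist.mc_tensorPows, mc_one, mul_one]

theorem tensorPows_iso_tw (F : X.Modules) {r : ℕ} (L : Fin r → X.Modules) (n : Fin r → ℕ) :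
    Nonempty (Curv2.tensorPows F r L n ≅ CohB1.tensorMod (tw L n) F) := by
  rw [← mc_eq_iff, Fga.SnapperTwist.mc_tensorPows, mc_tensor, mc_tw]

theorem mc_pullback_tw (f : X ⟶ Y) {r : ℕ} (L : Fin r → Y.Modules) (hL : ∀ i, PicF.IsInvertible (L i))
    (n : Fin r → ℕ) :
    mc ((Scheme.Modules.pullback f).obj (tw L n)) = ∏ i, mc ((Scheme.Modules.pullback f).obj (L i)) ^ n i := by
  induction r with
  | zero =>
    obtain ⟨e⟩ := Ega3B.PullTensor.nonempty_pullUnitIso f
    rw [Fin.prod_univ_zero, ← mc_one]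
    exact mc_eq e
  | succ r ih =>
    have h1 := isInvertible_tw (fun i : Fin r => L i.castSucc) (fun i => hL _) (fun i => n i.castSucc)
    have h2 := LocGen.isInvertible_tensorPow (hL (Fin.last r)) (n (Fin.last r))
    have e1 := mc_eq (Ega3B.PullTensor.pullTensorIso f h1 h2)
    obtain ⟨e2⟩ := Ega3B.PullTensor.nonempty_pullPowIso f (hL (Fin.last r)) (n (Fin.last r))
    rw [mc_tensor, mc_eq e2, ih (fun i => L i.castSucc) (fun i => hL _) (fun i => n i.castSucc), mc_tensorPow] at e1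
    rw [Fin.prod_univ_castSucc]
    exact e1

theorem tensorPows_pull_iso (f : X ⟶ Y) (F : X.Modules) {r : ℕ} (L : Fin r → Y.Modules)
    (hL : ∀ i, PicF.IsInvertible (L i)) (n : Fin r → ℕ) :
    Nonempty (Curv2.tensorPows F r (fun i => (Scheme.Modules.pullback f).obj (L i)) n ≅
      CohB1.tensorMod ((Scheme.Modules.pullback f).obj (tw L n)) F) := by
  rw [← mc_eq_iff, Fga.SnapperTwist.mc_tensorPows, mc_tensor, mc_pullback_tw f L hL n]

section proper

variable (k : Type u) [Field k] [X.Over (Spec (CommRingCat.of k))] [Y.Over (Spec (CommRingCat.of k))]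
  [IsProper (X ↘ (Spec (CommRingCat.of k)))] [IsProper (Y ↘ (Spec (CommRingCat.of k)))]

theorem isAdd_euler (X : Scheme.{u}) [X.Over (Spec (CommRingCat.of k))] [IsProper (X ↘ (Spec (CommRingCat.of k)))] :
    IsAdd (Curv2.euler k X) :=
  fun S hS h1 h2 h3 => Groth.Agent.S1524.result k X S hS h1 h2 h3

theorem isCoh_pull (f : X ⟶ Y) {r : ℕ} (L : Fin r → Y.Modules) (hL : ∀ i, PicF.IsInvertible (L i)) :
    ∀ i, PicF.IsInvertible ((Scheme.Modules.pullback f).obj (L i)) :=
  fun i => LocGen.isInvertible_pullback f (hL i)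

theorem euler_push (f : X ⟶ Y) (hf : f ≫ (Y ↘ (Spec (CommRingCat.of k))) = X ↘ (Spec (CommRingCat.of k)))
    [HasInjectiveResolutions X.Modules] (F : X.Modules) (hF : Coh.IsCoh F)
    {r : ℕ} (L : Fin r → Y.Modules) (hL : ∀ i, PicF.IsInvertible (L i)) (n : Fin r → ℕ) :
    Curv2.euler k X (Curv2.tensorPows F r (fun i => (Scheme.Modules.pullback f).obj (L i)) n) =
      ∑ᶠ i : ℕ, (-1 : ℤ) ^ i * Curv2.euler k Y (Curv2.tensorPows ((Coh.Rpush f i).obj F) r L n) := by
  have hprop : IsProper (f ≫ (Y ↘ (Spec (CommRingCat.of k)))) := by rw [hf]; infer_instance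
  have hfp : IsProper f := IsProper.of_comp f (Y ↘ (Spec (CommRingCat.of k)))
  have hNX := Fga.SnapperTwist.isNoetherian_of_proper k X
  have hNY := Fga.SnapperTwist.isNoetherian_of_proper k Y
  have hinv := isInvertible_tw L hL n
  have hinv' : PicF.IsInvertible ((Scheme.Modules.pullback f).obj (tw L n)) := LocGen.isInvertible_pullback f hinv
  obtain ⟨e1⟩ := tensorPows_pull_iso f F L hL n
  have hc1 : Coh.IsCoh (CohB1.tensorMod ((Scheme.Modules.pullback f).obj (tw L n)) F) :=
    Fga.SnapperTwist.isCoh_tensor' hinv' hF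
  rw [← chi_iso (isAdd_euler k X) e1.symm hc1, S1525.result k Y X f hf _ hc1]
  refine finsum_congr fun i => ?_
  congr 1
  have hR : Coh.IsCoh ((Coh.Rpush f i).obj F) := S0036.result f F hF i
  obtain ⟨e2⟩ := S0927.result f F (tw L n) (isFinLocFree_of_isInvertible hinv) i
  obtain ⟨e3⟩ := tensorPows_iso_tw ((Coh.Rpush f i).obj F) L n
  have hc2 : Coh.IsCoh (CohB1.tensorMod (tw L n) ((Coh.Rpush f i).obj F)) :=
    Fga.SnapperTwist.isCoh_tensor' hinv hR
  rw [← chi_iso (isAdd_euler k Y) e2 hc2, chi_iso (isAdd_euler k Y) e3.symm hc2]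

end proper

end K424.PushCoef
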