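import Groth.Agent.Variety.K424.NakSec
import Groth.Agent.Variety.K432.SemiAmp
import Groth.Agent.Variety.K426.DimZero
import Groth.Agent.Vanish.K909.NakOf
import Groth.Agent.S4373
import Groth.Agent.Variety.K424.PushCoef

/-!
# The Nakai–Moishezon criterion (helper424)

`X` proper over a field `k`, `L` invertible: if `(L^s · V) > 0` for every integral closed subscheme `V` of dimension
`s > 0`, then `L` is ample (`nak : K909.Kleiman.Nak k`).
-/

set_option autoImplicit false
universe u
open CategoryTheory CategoryTheory.Limits AlgebraicGeometry TopologicalSpace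

namespace K424.NakMain

open Groth.Agent Groth.Agent.Fga Groth.Agent.Fga.PicMon Groth.Agent.Fdesc.LocGen
  Groth.Agent.Grpsch.PicGrp K909.InterML K909.Kleiman

/-- Positivity of the top intersection numbers of `L` on integral closed subschemes. -/
def PosI (k : Type u) [Field k] (X : Scheme.{u}) [X.Over (Spec (CommRingCat.of k))] (d : ℕ) (L : X.Modules)
    (hL : PicF.IsInvertible L) : Prop :=
  ∀ (V : Scheme.{u}) (i : V ⟶ X) [IsClosedImmersion i] [IsIntegral V] (s : ℕ), 0 < s →
    topologicalKrullDim V = s → 0 < inter k X d (OZ i) (fun _ : Fin s => mk L hL)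

variable (k : Type u) [Field k]

theorem PosI.pullback {X Y : Scheme.{u}} [X.Over (Spec (CommRingCat.of k))] [Y.Over (Spec (CommRingCat.of k))]
    {d : ℕ} {L : X.Modules} {hL : PicF.IsInvertible L} (h : PosI k X d L hL) (f : Y ⟶ X) [IsClosedImmersion f]
    (hf : f ≫ (X ↘ Spec (CommRingCat.of k)) = Y ↘ Spec (CommRingCat.of k)) :
    PosI k Y d ((Scheme.Modules.pullback f).obj L) (isInvertible_pullback f hL) := by
  intro V i _ _ s hs hV
  have h1 : inter k Y d (OZ i) (fun _ : Fin s => mk _ (isInvertible_pullback f hL)) =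
      inter k X d (OZ (i ≫ f)) (fun _ : Fin s => mk L hL) := by
    rw [← pull_mk f hL, ← inter_push k f hf d (fun _ => mk L hL) (OZ i)]
    exact inter_iso k X d _ (Iso.refl _) _
  rw [h1]
  exact h V (i ≫ f) s hs hV

/-- `(L^s · X)` for `X` itself. -/
theorem PosI.self {X : Scheme.{u}} [X.Over (Spec (CommRingCat.of k))] [IsIntegral X]
    {d : ℕ} {L : X.Modules} {hL : PicF.IsInvertible L} (h : PosI k X d L hL) (s : ℕ) (hs : 0 < s)
    (hX : topologicalKrullDim X = s) : 0 < inter k X d (Coh.structureModule X) (fun _ : Fin s => mk L hL) := by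
  have h1 := h X (𝟙 X) s hs hX
  have h2 : OZ (𝟙 X) ≅ Coh.structureModule X := (Scheme.Modules.pushforwardId X).app _
  rwa [inter_iso k X d _ h2] at h1

theorem exists_nat_eq {x : WithBot ℕ∞} (h0 : 0 ≤ x) {d : ℕ} (hd : x ≤ (d : WithBot ℕ∞)) : ∃ r : ℕ, x = r := by
  induction x using WithBot.recBotCoe with
  | bot => exact absurd h0 (by simp)
  | coe a =>
    have h1 : a ≤ (d : ℕ∞) := by exact_mod_cast hd
    obtain ⟨r, rfl⟩ := ENat.ne_top_iff_exists.mp (ne_top_of_le_ne_top (ENat.natCast_ne_top d) h1)
    exact ⟨r, rfl⟩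

/-- The integral case, by induction on the dimension. -/
theorem isAmple_int (n : ℕ) : ∀ (X : Scheme.{u}) [X.Over (Spec (CommRingCat.of k))]
    [IsProper (X ↘ Spec (CommRingCat.of k))] [IsIntegral X], topologicalKrullDim X < (n : WithBot ℕ∞) →
    ∀ d : ℕ, topologicalKrullDim X ≤ d →
    ∀ (L : X.Modules) (hL : PicF.IsInvertible L), PosI k X d L hL → CohB1.IsAmple L := by
  induction n with
  | zero =>
    intro X _ _ _ hX
    exfalso
    have := Fga.IntNum0.topologicalKrullDim_nonneg X
    exact absurd hX (not_lt.mpr (by exact_mod_cast this))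
  | succ n ih =>
    intro X _ _ _ hX d hd L hL hpos
    have hNoeth : IsNoetherian X := IntAdd.isNoetherian k X
    have hZ : ∀ (Z : Scheme.{u}) (i : Z ⟶ X) [IsClosedImmersion i] [IsIntegral Z], Set.range i ≠ Set.univ →
        CohB1.IsAmple ((Scheme.Modules.pullback i).obj L) := by
      intro Z i _ _ hr
      let _ : Z.Over (Spec (CommRingCat.of k)) := ⟨i ≫ (X ↘ Spec (CommRingCat.of k))⟩
      have hZp : IsProper (Z ↘ Spec (CommRingCat.of k)) :=
        inferInstanceAs (IsProper (i ≫ (X ↘ Spec (CommRingCat.of k))))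
      exact ih Z (Groth.Agent.Pic13.H946.Main.dim_lt_of_range_ne hX i hr) d ((dim_le_of_closed i).trans hd) _
        (isInvertible_pullback i hL) (hpos.pullback k i rfl)
    obtain ⟨r, hr⟩ : ∃ r : ℕ, topologicalKrullDim X = r :=
      exists_nat_eq (Fga.IntNum0.topologicalKrullDim_nonneg X) hd
    rcases Nat.eq_zero_or_pos r with rfl | hr0
    · have h1 := ((K426.DimZero.tfae k (X ↘ Spec (CommRingCat.of k))).out 0 1).1 (by simpa using hr)
      have : IsAffine X := h1.1
      exact S4373.result X L hL
    · refine K432.SemiAmp.isAmple_of_restrict k hL hZ ?_ ?_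
      · refine NakSec.exists_section k hL ?_ d hd hr0 hr.le (hpos.self k r hr0 hr)
        intro T hT hη
        obtain ⟨q₀, h0⟩ := K432.SemiAmp.van_of_torsion k hL hZ T hT hη
        refine ⟨q₀, fun q hq p hp => ?_⟩
        have := h0 q hq p hp
        exact (hmapEquiv k X (Ega2.Tens.swap (CohB1.tensorPow L q) T) p).toEquiv.subsingleton
      · intro h1
        obtain rfl : r = 1 := by
          rw [h1] at hr
          exact_mod_cast hr.symm
        have h2 := hpos.self k 1 one_pos hr
        rw [inter_one k X d hd L hL hr.le, Fga.IntAdd.eulerCharLE_eq k X d hd, Fga.IntAdd.eulerCharLE_eq k X d hd] at h2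
        change 0 < Curv2.deg k X L 1
        unfold Curv2.deg
        simpa using h2

/-- **The Nakai–Moishezon criterion**, for an arbitrary proper scheme over a field. -/
theorem nak : Nak.{u} k := by
  intro X _ _ d hd L hL hpos
  rw [S11559.result k X L hL]
  intro Z hZ
  let Y := (Scheme.IdealSheafData.vanishingIdeal Z).subscheme
  let i : Y ⟶ X := (Scheme.IdealSheafData.vanishingIdeal Z).subschemeι
  have hint : IsIntegral Y := by
    obtain ⟨y, hy⟩ : ∃ y : X, Z = ⟨closure {y}, isClosed_closure⟩ :=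
      ⟨hZ.1.genericPoint, Closeds.ext (hZ.1.closure_genericPoint Z.isClosed).symm⟩
    subst hy
    exact K432.CurveLift.isIntegral_ptIdeal y
  let _ : Y.Over (Spec (CommRingCat.of k)) := ⟨i ≫ (X ↘ Spec (CommRingCat.of k))⟩
  have hYp : IsProper (Y ↘ Spec (CommRingCat.of k)) :=
    inferInstanceAs (IsProper (i ≫ (X ↘ Spec (CommRingCat.of k))))
  have hdY : topologicalKrullDim Y ≤ d := (dim_le_of_closed i).trans hd
  exact isAmple_int k (d + 1) Y (lt_of_le_of_lt hdY (by exact_mod_cast Nat.lt_succ_self d)) d hdY _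
    (isInvertible_pullback i hL) (PosI.pullback k hpos i rfl)

/-- The Nakai–Moishezon criterion, coefficient form, sufficiency. -/
theorem isAmple_of_coeff (X : Scheme.{u}) [X.Over (Spec (CommRingCat.of k))]
    [IsProper (X ↘ (Spec (CommRingCat.of k)))] (L : X.Modules) (hL : PicF.IsInvertible L)
    (h : ∀ (Z : X.IdealSheafData) [IsIntegral Z.subscheme] (d : ℕ), 0 < d →
        topologicalKrullDim (Z.support : Set X) = d →
        ∀ P : MvPolynomial (Fin d) ℚ,
          (∀ n : Fin d → ℕ, (Curv2.euler k X (Curv2.tensorPows (ClSub.quotMod Z) d (fun _ => L) n) : ℚ) =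
            MvPolynomial.eval (fun i => (n i : ℚ)) P) →
          0 < MvPolynomial.coeff (Finsupp.equivFunOnFinite.symm fun _ : Fin d => 1) P) : CohB1.IsAmple L := by
  have := IntAdd.isNoetherian k X
  obtain ⟨D, hD⟩ := EtpbcA.CdFinDim.exists_dim_le (X ↘ Spec (CommRingCat.of k))
  refine nak k X D hD L hL fun V i _ _ s hs hV => ?_
  -- replace `V` by the closed subscheme of the ideal of `i`
  have hgi : IsIso i.toImage := inferInstance
  let W := i.ker
  let g : V ⟶ W.subscheme := i.toImage
  have hg : g ≫ W.subschemeι = i := i.toImage_imageι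
  have hne : Nonempty W.subscheme := ⟨g (genericPoint V)⟩
  have hgi' : IsIso g := hgi
  have hint : IsIntegral W.subscheme := isIntegral_of_isOpenImmersion (inv g : W.subscheme ⟶ V)
  have hiso : OZ i ≅ ClSub.quotMod W := by
    have h1 := S1641.isIso_unitToPush g
    rw [← hg]
    exact (Scheme.Modules.pushforwardComp g W.subschemeι).symm.app (Coh.structureModule V) ≪≫
      (Scheme.Modules.pushforward W.subschemeι).mapIso (@asIso _ _ _ _ (ClSub.unitToPush g) h1).symm
  have hdim : topologicalKrullDim (W.support : Set X) = s := by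
    rw [← Scheme.IdealSheafData.range_subschemeι, ← support_OZ, dim_OZ, ← hV]
    exact (IsHomeomorph.topologicalKrullDim_eq _ (Scheme.homeoOfIso (asIso g)).isHomeomorph).symm
  have hsupp : topologicalKrullDim (CohB1.support (ClSub.quotMod W)) = s := by
    rw [show CohB1.support (ClSub.quotMod W) = CohB1.support (OZ W.subschemeι) from rfl, support_OZ,
      Scheme.IdealSheafData.range_subschemeι, hdim]
  have hcoh : Coh.IsCoh (ClSub.quotMod W) := isCoh_OZ W.subschemeι
  obtain ⟨P, -, hP⟩ := K424.IntCoef.exists_poly (K424.PushCoef.isAdd_euler k X) (fun _ : Fin s => L) (fun _ => hL)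
    (ClSub.quotMod W) hcoh s hsupp.le
  have hpos := h W s hs hdim P hP
  have hLM : mk L hL * mk (dual L) (isInvertible_dual hL) = 1 := by rw [← inv_mk hL, mul_inv_cancel]
  have hLM' : mc L * mc (dual L) = 1 := by
    have := congrArg (Pic13.H970.IntForm.toMC X) hLM
    rwa [map_mul, map_one] at this
  rw [K420.IntCoeff.coeff_eq_intNum' k D hD (F := ClSub.quotMod W) hcoh
    (r := s) hsupp.le (L := fun _ => L) (M := fun _ => dual L) (fun _ => hL) (fun _ => isInvertible_dual hL)
    (fun _ => hLM') hP] at hpos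
  rw [inter_iso k X D _ hiso, inter_mk k X D (ClSub.quotMod W) (fun _ : Fin s => L) (fun _ => dual L) (fun _ => hL)
    (fun _ => isInvertible_dual hL) (fun _ => ⟨@asIso _ _ _ _ (ev L) (isIso_ev hL)⟩)]
  exact_mod_cast hpos

/-- The Nakai–Moishezon criterion, coefficient form, necessity. -/
theorem coeff_pos_of_isAmple (X : Scheme.{u}) [X.Over (Spec (CommRingCat.of k))]
    [IsProper (X ↘ (Spec (CommRingCat.of k)))] (L : X.Modules) (hA : CohB1.IsAmple L) (Z : X.IdealSheafData)
    (d : ℕ) (hdim : topologicalKrullDim (Z.support : Set X) = d) (P : MvPolynomial (Fin d) ℚ)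
    (hP : ∀ n : Fin d → ℕ, (Curv2.euler k X (Curv2.tensorPows (ClSub.quotMod Z) d (fun _ => L) n) : ℚ) =
            MvPolynomial.eval (fun i => (n i : ℚ)) P) :
    0 < MvPolynomial.coeff (Finsupp.equivFunOnFinite.symm fun _ : Fin d => 1) P := by
  have := IntAdd.isNoetherian k X
  have hL := hA.1
  obtain ⟨D, hD⟩ := EtpbcA.CdFinDim.exists_dim_le (X ↘ Spec (CommRingCat.of k))
  have hsupp : topologicalKrullDim (CohB1.support (ClSub.quotMod Z)) = d := by
    rw [show CohB1.support (ClSub.quotMod Z) = CohB1.support (OZ Z.subschemeι) from rfl, support_OZ,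
      Scheme.IdealSheafData.range_subschemeι, hdim]
  have hcoh : Coh.IsCoh (ClSub.quotMod Z) := isCoh_OZ Z.subschemeι
  have hLM : mk L hL * mk (dual L) (isInvertible_dual hL) = 1 := by rw [← inv_mk hL, mul_inv_cancel]
  have hLM' : mc L * mc (dual L) = 1 := by
    have := congrArg (Pic13.H970.IntForm.toMC X) hLM
    rwa [map_mul, map_one] at this
  rw [K420.IntCoeff.coeff_eq_intNum' k D hD (F := ClSub.quotMod Z) hcoh
    (r := d) hsupp.le (L := fun _ => L) (M := fun _ => dual L) (fun _ => hL) (fun _ => isInvertible_dual hL)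
    (fun _ => hLM') hP]
  have h := Fga.PosMain.intNum_pos k X D hD (fun _ : Fin d => L) (fun _ => dual L) (fun _ => hA)
    (fun _ => ⟨@asIso _ _ _ _ (ev L) (isIso_ev hL)⟩) _ hcoh hsupp
  exact_mod_cast h

end K424.NakMain
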