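import Groth.Agent.Fga.SnapperAbs
import Groth.Agent.CycB.CohStalk

/-!
# Devissage formula: an additive function killing modules of small support is
`Σ_ξ length(F_ξ) c(ξ)` over the points with `d`-dimensional closure
-/

set_option autoImplicit false
universe u
open CategoryTheory CategoryTheory.Limits AlgebraicGeometry Opposite TopologicalSpace

namespace K424.LenSum

open Groth.Agent Groth.Agent.Fga.ChiBasic

section topology

variable {X : Type*} [TopologicalSpace X]

/-- A point with `d`-dimensional closure has no proper generization in a set of dimension `≤ d`. -/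
theorem eq_of_specializes [T0Space X] {T : Set X} (hT : IsClosed T) {d : ℕ}
    (hd : topologicalKrullDim T ≤ d) {x ξ : X} (hx : x ∈ T)
    (hξ : topologicalKrullDim (closure ({ξ} : Set X)) = (d : WithBot ℕ∞)) (h : x ⤳ ξ) : x = ξ := by
  by_contra hne
  have h1 : closure ({ξ} : Set X) ⊆ closure {x} :=
    closure_minimal (Set.singleton_subset_iff.mpr h.mem_closure) isClosed_closure
  have h2 : closure ({ξ} : Set X) ≠ closure {x} := by
    intro he
    have : ξ ⤳ x := by rw [specializes_iff_mem_closure, he]; exact subset_closure rfl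
    exact hne (h.antisymm this).eq
  have h3 : topologicalKrullDim (closure ({x} : Set X)) < ((d + 1 : ℕ) : WithBot ℕ∞) :=
    lt_of_le_of_lt ((Fga.DimLt.topologicalKrullDim_mono
      (closure_minimal (Set.singleton_subset_iff.mpr hx) hT)).trans hd) (by exact_mod_cast Nat.lt_succ_self d)
  have h4 := Fga.DimLt.topologicalKrullDim_lt isIrreducible_singleton.closure isClosed_closure h1 h2 h3
  rw [hξ] at h4
  exact lt_irrefl _ h4

theorem finite_points [T0Space X] [QuasiSober X] [NoetherianSpace X] {T : Set X} (hT : IsClosed T) {d : ℕ}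
    (hd : topologicalKrullDim T ≤ d) :
    {ξ : X | ξ ∈ T ∧ topologicalKrullDim (closure ({ξ} : Set X)) = (d : WithBot ℕ∞)}.Finite := by
  have hNoe : NoetherianSpace T := hT.isClosedEmbedding_subtypeVal.isInducing.noetherianSpace
  have hQS : QuasiSober T := hT.isClosedEmbedding_subtypeVal.quasiSober
  have hf : (irreducibleComponents T).Finite := NoetherianSpace.finite_irreducibleComponents
  have : Finite (irreducibleComponents T) := hf.to_subtype
  refine @Set.toFinite _ _ ?_
  refine Finite.of_injective (β := irreducibleComponents T)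
    (fun x => ⟨irreducibleComponent (⟨x.1, x.2.1⟩ : T), irreducibleComponent_mem_irreducibleComponents _⟩) ?_
  intro x y hxy
  have hxy' : irreducibleComponent (⟨x.1, x.2.1⟩ : T) = irreducibleComponent (⟨y.1, y.2.1⟩ : T) :=
    congrArg Subtype.val hxy
  obtain ⟨g, hg⟩ := QuasiSober.sober (isIrreducible_irreducibleComponent (x := (⟨x.1, x.2.1⟩ : T)))
    isClosed_irreducibleComponent
  have h1 : g ⤳ (⟨x.1, x.2.1⟩ : T) := by
    rw [specializes_iff_mem_closure, hg.def]
    exact mem_irreducibleComponent
  have h2 : g ⤳ (⟨y.1, y.2.1⟩ : T) := by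
    rw [specializes_iff_mem_closure, hg.def, hxy']
    exact mem_irreducibleComponent
  have h1' : g.1 = x.1 := eq_of_specializes hT hd g.2 x.2.2 (h1.map continuous_subtype_val)
  have h2' : g.1 = y.1 := eq_of_specializes hT hd g.2 y.2.2 (h2.map continuous_subtype_val)
  exact Subtype.ext (h1'.symm.trans h2')

end topology

section

variable {X : Scheme.{u}}

/-- The term of `lenSum` at `ξ`. -/
noncomputable def term (d : ℕ) (c : X → ℤ) (F : X.Modules) (ξ : X) : ℤ :=
  open Classical in
  if topologicalKrullDim (closure ({ξ} : Set X)) = (d : WithBot ℕ∞) then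
    ((Module.length (X.presheaf.stalk ξ) (F.presheaf.stalk ξ)).toNat : ℤ) * c ξ else 0

/-- `Σ_ξ length(F_ξ) c(ξ)` over the points `ξ` with `d`-dimensional closure. -/
noncomputable def lenSum (d : ℕ) (c : X → ℤ) (F : X.Modules) : ℤ := ∑ᶠ ξ : X, term d c F ξ

theorem term_eq_zero_of_notMem (d : ℕ) (c : X → ℤ) (F : X.Modules) (ξ : X) (h : ξ ∉ CohB1.support F) :
    term d c F ξ = 0 := by
  unfold term
  split_ifs
  · have hs : Subsingleton (F.presheaf.stalk ξ) := by
      rw [CohqB.DevSupport.not_mem_support_iff] at h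
      exact h
    rw [Module.length_eq_zero_iff.mpr hs]
    simp
  · rfl

theorem term_eq_zero_of_dim (d : ℕ) (c : X → ℤ) (F : X.Modules) (ξ : X)
    (h : topologicalKrullDim (closure ({ξ} : Set X)) ≠ (d : WithBot ℕ∞)) :
    term d c F ξ = 0 := by
  unfold term
  rw [if_neg h]

theorem support_term_subset (d : ℕ) (c : X → ℤ) (F : X.Modules) (T : Set X) (hT : CohB1.support F ⊆ T) :
    Function.support (term d c F) ⊆
      {ξ : X | ξ ∈ T ∧ topologicalKrullDim (closure ({ξ} : Set X)) = (d : WithBot ℕ∞)} := by
  intro ξ hξ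
  refine ⟨hT ?_, ?_⟩
  · by_contra h
    exact hξ (term_eq_zero_of_notMem d c F ξ h)
  · by_contra h
    exact hξ (term_eq_zero_of_dim d c F ξ h)

theorem length_ne_top [IsNoetherian X] {F : X.Modules} (hF : Coh.IsCoh F) {T : Set X} (hT : IsClosed T)
    (hFT : CohB1.support F ⊆ T) {d : ℕ} (hd : topologicalKrullDim T ≤ d) (ξ : X)
    (hξ : topologicalKrullDim (closure ({ξ} : Set X)) = (d : WithBot ℕ∞)) :
    Module.length (X.presheaf.stalk ξ) (F.presheaf.stalk ξ) ≠ ⊤ :=
  (CycB.CohStalk.length_stalk_lt_top F hF _ fun x hx h => eq_of_specializes hT hd (hFT (by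
    by_contra hn
    rw [CohqB.DevSupport.not_mem_support_iff] at hn
    exact not_subsingleton _ hn)) hξ h).ne

theorem lenSum_add [IsNoetherian X] (d : ℕ) (c : X → ℤ) {T : Set X} (hT : IsClosed T)
    (hd : topologicalKrullDim T ≤ d) (S : ShortComplex X.Modules) (hS : S.ShortExact)
    (h₁ : Coh.IsCoh S.X₁) (h₂ : Coh.IsCoh S.X₂) (h₃ : Coh.IsCoh S.X₃) (hsupp : CohB1.support S.X₂ ⊆ T) :
    lenSum d c S.X₂ = lenSum d c S.X₁ + lenSum d c S.X₃ := by
  have hm := hS.mono_f
  have he := hS.epi_g
  have hs1 : CohB1.support S.X₁ ⊆ T := (CohqB.DevSupport.support_subset_of_mono S.f).trans hsupp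
  have hs3 : CohB1.support S.X₃ ⊆ T := (CohqB.DevSupport.support_subset_of_epi S.g).trans hsupp
  have hfin := finite_points hT hd
  unfold lenSum
  rw [← finsum_add_distrib (hfin.subset (support_term_subset d c _ T hs1))
    (hfin.subset (support_term_subset d c _ T hs3))]
  refine finsum_congr fun ξ => ?_
  unfold term
  split_ifs with hξ
  · rw [CycB.StalkExact.length_stalk_shortExact S hS, ENat.toNat_add (length_ne_top h₁ hT hs1 hd ξ hξ)
      (length_ne_top h₃ hT hs3 hd ξ hξ)]
    push_cast
    ring
  · rw [add_zero]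

/-- **The devissage formula.** -/
theorem eq_lenSum [IsNoetherian X] {ψ : X.Modules → ℤ} (hψ : IsAdd ψ) (d : ℕ)
    (hzero : ∀ F : X.Modules, Coh.IsCoh F → topologicalKrullDim (CohB1.support F) < (d : WithBot ℕ∞) → ψ F = 0)
    (c : X → ℤ) (F : X.Modules) (hF : Coh.IsCoh F)
    (hc : ∀ ξ ∈ CohB1.support F, topologicalKrullDim (closure ({ξ} : Set X)) = (d : WithBot ℕ∞) →
      ∃ G : X.Modules, Coh.IsCoh G ∧ CohB1.support G ⊆ closure {ξ} ∧
        Module.length (X.presheaf.stalk ξ) (G.presheaf.stalk ξ) = 1 ∧ ψ G = c ξ)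
    (hd : topologicalKrullDim (CohB1.support F) ≤ d) : ψ F = lenSum d c F := by
  have hT : IsClosed (CohB1.support F) := Ega3B.Devissage.isClosed_support hF
  refine Ega3B.Devissage.devissage (CohB1.support F) hT (fun M => ψ M = lenSum d c M) ?_ ?_ ?_ F hF subset_rfl
  · intro M hM
    rw [chi_isZero hψ hM]
    have he : CohB1.support M = ∅ := CohqB.DevSupport.support_eq_empty_of_isZero hM
    unfold lenSum
    rw [finsum_eq_zero_of_forall_eq_zero]
    intro ξ
    exact term_eq_zero_of_notMem d c M ξ (by rw [he]; exact Set.notMem_empty ξ)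
  · intro S hS h1 h2 h3 hsupp
    have e1 := hψ S hS h1 h2 h3
    have e2 := lenSum_add d c hT hd S hS h1 h2 h3 hsupp
    refine ⟨fun ha hb => ?_, fun ha hb => ?_, fun ha hb => ?_⟩
    · dsimp only at *; omega
    · dsimp only at *; omega
    · dsimp only at *; omega
  · intro y hy
    have hyT : closure {y} ⊆ CohB1.support F := closure_minimal (Set.singleton_subset_iff.mpr hy) hT
    by_cases hyd : topologicalKrullDim (closure ({y} : Set X)) = (d : WithBot ℕ∞)
    · obtain ⟨G, hG, hGs, hGl, hGc⟩ := hc y hy hyd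
      refine ⟨G, hG, ?_, hGs, Module.length_eq_one_iff.mp hGl⟩
      change ψ G = lenSum d c G
      unfold lenSum
      rw [finsum_eq_single _ y]
      · unfold term
        rw [if_pos hyd, hGl, hGc]
        simp
      · intro ξ hξ
        by_cases hξd : topologicalKrullDim (closure ({ξ} : Set X)) = (d : WithBot ℕ∞)
        · refine term_eq_zero_of_notMem d c G ξ fun hmem => ?_
          have h1 : y ⤳ ξ := specializes_iff_mem_closure.mpr (hGs hmem)
          exact hξ (eq_of_specializes hT hd hy hξd h1).symm
        · exact term_eq_zero_of_dim d c G ξ hξd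
    · have hylt : topologicalKrullDim (closure ({y} : Set X)) < (d : WithBot ℕ∞) :=
        lt_of_le_of_ne ((Fga.DimLt.topologicalKrullDim_mono hyT).trans hd) hyd
      obtain ⟨Z, i, hi, hZ, hgen, hrange⟩ := Fga.IntegralSub.exists_integral_closed y
      let G := (Coh.push i).obj (Coh.structureModule Z)
      have hG : Coh.IsCoh G := S0019.result i _ (Fdesc.StructMod.isCoh_structureModule _)
      have hGs : CohB1.support G ⊆ closure {y} :=
        (CohqB.DevSimple.support_push_subset_range i _).trans hrange.le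
      have hsimple : IsSimpleModule (X.presheaf.stalk y) (G.presheaf.stalk y) := by
        have : Nonempty (⊤ : Z.Opens) := ⟨⟨genericPoint Z, trivial⟩⟩
        have h := CohqB.DevSimple.isSimpleModule_stalk_push i (Coh.structureModule Z) ⊤
          ⟨Scheme.Modules.restrictUnitIso _⟩
        rw [hgen] at h
        exact h
      refine ⟨G, hG, ?_, hGs, hsimple⟩
      change ψ G = lenSum d c G
      rw [hzero G hG (lt_of_le_of_lt (Fga.DimLt.topologicalKrullDim_mono hGs) hylt)]
      unfold lenSum
      rw [finsum_eq_zero_of_forall_eq_zero]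
      intro ξ
      by_cases hξd : topologicalKrullDim (closure ({ξ} : Set X)) = (d : WithBot ℕ∞)
      · refine term_eq_zero_of_notMem d c G ξ fun hmem => ?_
        have h1 : closure {ξ} ⊆ closure {y} :=
          closure_minimal (Set.singleton_subset_iff.mpr (hGs hmem)) isClosed_closure
        have h2 := Fga.DimLt.topologicalKrullDim_mono h1
        rw [hξd] at h2
        exact absurd hylt (not_lt.mpr h2)
      · exact term_eq_zero_of_dim d c G ξ hξd

end

end K424.LenSum
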