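import Groth.Agent.Variety.K424.TrdMap
import Groth.Agent.Variety.K424.LenSum
import Groth.Agent.Vancyc.H175.FibSupp
import Groth.Agent.CycB.PushStalk

/-!
# Direct images of the structure sheaf of an integral scheme: stalks at the generic point of the image
-/

set_option autoImplicit false
universe u
open CategoryTheory CategoryTheory.Limits AlgebraicGeometry Opposite TopologicalSpace

namespace K424.PushLenZ

open Groth.Agent Groth.Agent.VarietyB.ResMap Groth.Agent.VarietyB.FibreGeneric

theorem support_push_subset {Z X : Scheme.{u}} (g : Z ⟶ X) (hcl : IsClosedMap g) (F : Z.Modules) :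
    CohB1.support ((Scheme.Modules.pushforward g).obj F) ⊆ Set.range g := by
  intro x hx
  by_contra hn
  refine hx ?_
  refine CycB.PushStalk.subsingleton_stalk_push g F x ?_
  rwa [hcl.isClosed_range.closure_eq]

/-- `R^0 g_* = g_*`. -/
noncomputable def rpushZero {Z X : Scheme.{u}} (g : Z ⟶ X) [HasInjectiveResolutions Z.Modules] :
    Coh.Rpush g 0 ≅ Scheme.Modules.pushforward g :=
  haveI : PreservesFiniteLimits (Scheme.Modules.pushforward g) :=
    haveI := (Scheme.Modules.pullbackPushforwardAdjunction g).rightAdjoint_preservesLimits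
    PreservesLimits.preservesFiniteLimits _
  (Scheme.Modules.pushforward g).rightDerivedZeroIsoSelf

variable (k : Type u) [Field k] {Z X : Scheme.{u}} [X.Over (Spec (CommRingCat.of k))]
    [Z.Over (Spec (CommRingCat.of k))] (g : Z ⟶ X)
    (hg : g ≫ (X ↘ (Spec (CommRingCat.of k))) = Z ↘ (Spec (CommRingCat.of k)))
    [LocallyOfFiniteType (X ↘ Spec (CommRingCat.of k))] [LocallyOfFiniteType (Z ↘ Spec (CommRingCat.of k))]
    [IsIntegral Z]

include hg

/-- When `dim Z = dim cl(g(η))`, the fibre over `g(η)` is the generic point. -/
theorem eq_genericPoint_of_map_eq (d : ℕ) (hd : topologicalKrullDim Z = d)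
    (hd' : topologicalKrullDim (closure ({g (genericPoint Z)} : Set X)) = (d : WithBot ℕ∞)) (z : Z)
    (hz : g z = g (genericPoint Z)) : z = genericPoint Z := by
  have h1 : trd k X (g (genericPoint Z)) = d := (dim_closure_eq_iff k X _ d).mp hd'
  obtain ⟨m, hm⟩ := exists_trd_eq k Z z
  have h2 : trd k X (g z) ≤ trd k Z z := TrdMap.trd_le k g hg z
  rw [hz, h1, hm] at h2
  have h3 : d ≤ m := by exact_mod_cast h2
  have h4 : topologicalKrullDim (closure ({z} : Set Z)) = (m : WithBot ℕ∞) := dim_closure_eq k Z z m hm
  by_contra hne
  have h5 : topologicalKrullDim (closure ({z} : Set Z)) < (d : WithBot ℕ∞) := by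
    refine Fga.DimLt.topologicalKrullDim_lt (A := (Set.univ : Set Z)) (IrreducibleSpace.isIrreducible_univ Z)
      isClosed_closure (Set.subset_univ _) ?_ ?_
    · intro he
      apply hne
      have h6 : IsGenericPoint z (Set.univ : Set Z) := he
      exact h6.eq (genericPoint_spec Z)
    · have : topologicalKrullDim (Set.univ : Set Z) = topologicalKrullDim Z :=
        IsHomeomorph.topologicalKrullDim_eq _ (Homeomorph.Set.univ Z).isHomeomorph
      rw [this, hd]
      exact_mod_cast Nat.lt_succ_self d
  rw [h4] at h5
  have h7 : m < d := by exact_mod_cast h5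
  omega

omit hg [X.Over (Spec (CommRingCat.of k))] [Z.Over (Spec (CommRingCat.of k))]
    [LocallyOfFiniteType (X ↘ Spec (CommRingCat.of k))] [LocallyOfFiniteType (Z ↘ Spec (CommRingCat.of k))] in
theorem length_unit_stalk_genericPoint :
    Module.length (Z.presheaf.stalk (genericPoint Z))
      ((Coh.structureModule Z).presheaf.stalk (genericPoint Z)) = 1 := by
  have h2 := (CycB.PushStalk.unitStalk Z (genericPoint Z)).length_eq
  rw [← h2, Module.length_eq_one_iff]
  letI : Field (Z.presheaf.stalk (genericPoint Z)) := inferInstanceAs (Field Z.functionField)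
  exact inferInstanceAs (IsSimpleModule Z.functionField Z.functionField)

/-- The length of `(g_* O_Z)_ξ` at `ξ = g(η)` is the degree, when the dimensions agree. -/
theorem length_push [IsProper g] (d : ℕ) (hd : topologicalKrullDim Z = d)
    (hd' : topologicalKrullDim (closure ({g (genericPoint Z)} : Set X)) = (d : WithBot ℕ∞)) :
    Module.length (X.presheaf.stalk (g (genericPoint Z)))
      (((Scheme.Modules.pushforward g).obj (Coh.structureModule Z)).presheaf.stalk (g (genericPoint Z))) =
      (g.residueDegree (genericPoint Z) : ℕ∞) := by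
  have hNZ : IsLocallyNoetherian Z := LocallyOfFiniteType.isLocallyNoetherian (Z ↘ Spec (CommRingCat.of k))
  have hfib := eq_genericPoint_of_map_eq k g hg d hd hd'
  have htrd : trd k Z (genericPoint Z) = trd k X (g (genericPoint Z)) := by
    rw [(dim_closure_eq_iff k X _ d).mp hd', (dim_eq_iff k Z d).mp hd]
  have hfin := TrdMap.residueFieldMap_finite k g hg (genericPoint Z) htrd
  obtain ⟨hS, h⟩ := CycB.PushLen.length_push_stalk g g.isClosedMap (Coh.structureModule Z) Set.univ isClosed_univ
    (fun x hx => absurd (Set.mem_univ x) hx) (g (genericPoint Z))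
    (fun x _ hx x' _ hx' => by
      have h1 := hfib x hx
      subst h1
      exact (hx'.antisymm (genericPoint_specializes x')).eq)
    (fun x _ hx => by
      have h1 := hfib x hx
      subst h1
      exact hfin)
  have hS' : hS.toFinset = {genericPoint Z} := by
    ext x
    simp only [Set.Finite.mem_toFinset, Finset.mem_singleton]
    constructor
    · intro hx
      exact hfib x hx.1
    · rintro rfl
      exact ⟨rfl, trivial⟩
  refine h.trans ?_
  rw [hS', Finset.sum_singleton, length_unit_stalk_genericPoint, one_mul]

end K424.PushLenZ
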