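import Groth.Agent.Variety.K424.IntCoef
import Groth.Agent.Variety.K424.LenSum

/-!
# Intersection numbers and integral closed subschemes
-/

set_option autoImplicit false
universe u
open CategoryTheory CategoryTheory.Limits AlgebraicGeometry Opposite TopologicalSpace

namespace K424.IntSum

open Groth.Agent Groth.Agent.Fga.ChiBasic K424.IntCoef K424.LenSum K424.CoefPoly

variable {X : Scheme.{u}}

theorem isCoh_quotMod [IsNoetherian X] (D : X.IdealSheafData) : Coh.IsCoh (ClSub.quotMod D) :=
  S0019.result D.subschemeι _ (Fdesc.StructMod.isCoh_structureModule _)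

theorem support_quotMod_subset (D : X.IdealSheafData) :
    CohB1.support (ClSub.quotMod D) ⊆ (D.support : Set X) :=
  (CohqB.DevSimple.support_push_subset_range D.subschemeι _).trans D.range_subschemeι.le

/-- The stalk of the structure sheaf of an integral closed subscheme at its generic point has length one. -/
theorem length_push_genericPoint {Z : Scheme.{u}} (i : Z ⟶ X) [IsClosedImmersion i] [IsIntegral Z] :
    Module.length (X.presheaf.stalk (i (genericPoint Z)))
      (((Scheme.Modules.pushforward i).obj (Coh.structureModule Z)).presheaf.stalk (i (genericPoint Z))) = 1 := by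
  have : Nonempty (⊤ : Z.Opens) := ⟨⟨genericPoint Z, trivial⟩⟩
  have h := CohqB.DevSimple.isSimpleModule_stalk_push i (Coh.structureModule Z) ⊤
    ⟨Scheme.Modules.restrictUnitIso _⟩
  exact Module.length_eq_one_iff.mpr h

/-- The reduced closed subscheme on the closure of `y`. -/
noncomputable abbrev vI (y : X) : X.IdealSheafData :=
  Scheme.IdealSheafData.vanishingIdeal (⟨closure ({y} : Set X), isClosed_closure⟩ : Closeds X)

theorem range_vI (y : X) : Set.range (vI y).subschemeι = closure {y} := by
  rw [Scheme.IdealSheafData.range_subschemeι, Scheme.IdealSheafData.coe_support_vanishingIdeal]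
  rfl

instance isIntegral_vI (y : X) : IsIntegral (vI y).subscheme := by
  have hred : IsReduced (vI y).subscheme := Ega1.ReducedSub.isReduced_subscheme_vanishingIdeal _
  have hcl : Topology.IsClosedEmbedding (vI y).subschemeι := (vI y).subschemeι.isClosedEmbedding
  have hirr : IrreducibleSpace (vI y).subscheme := by
    have h1 : IsIrreducible (Set.range (vI y).subschemeι) := by
      rw [range_vI]; exact isIrreducible_singleton.closure
    have := Subtype.irreducibleSpace h1
    exact hcl.isEmbedding.toHomeomorph.irreducibleSpace_iff.mpr this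
  exact isIntegral_of_irreducibleSpace_of_isReduced _

theorem map_genericPoint_vI (y : X) : (vI y).subschemeι (genericPoint (vI y).subscheme) = y := by
  have hcl : Topology.IsClosedEmbedding (vI y).subschemeι := (vI y).subschemeι.isClosedEmbedding
  have h1 : IsGenericPoint ((vI y).subschemeι (genericPoint (vI y).subscheme)) (closure {y}) := by
    rw [← range_vI, ← Set.image_univ]
    have h3 : closure {genericPoint (vI y).subscheme} = Set.univ := genericPoint_closure _
    rw [← h3, IsGenericPoint, ← hcl.closure_image_eq, Set.image_singleton]
  exact h1.eq isGenericPoint_closure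

theorem support_quotMod_vI (y : X) : CohB1.support (ClSub.quotMod (vI y)) ⊆ closure {y} :=
  (CohqB.DevSimple.support_push_subset_range (vI y).subschemeι _).trans (range_vI y).le

theorem length_quotMod_vI (y : X) :
    Module.length (X.presheaf.stalk y) ((ClSub.quotMod (vI y)).presheaf.stalk y) = 1 := by
  have h := length_push_genericPoint (vI y).subschemeι
  rw [map_genericPoint_vI y] at h
  exact h

/-- **Intersection numbers are sums over the components**: for a coherent `F` with support of dimension
`≤ d`, `icoef F = Σ_ξ length(F_ξ) icoef(O_{closure ξ})`. -/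
theorem icoef_eq_lenSum [IsNoetherian X] {χ : X.Modules → ℤ} (hχ : IsAdd χ) {d : ℕ} (L : Fin d → X.Modules)
    (hL : ∀ i, PicF.IsInvertible (L i)) (F : X.Modules) (hF : Coh.IsCoh F)
    (hd : topologicalKrullDim (CohB1.support F) ≤ d) :
    icoef χ L F = lenSum d (fun ξ => icoef χ L (ClSub.quotMod (vI ξ))) F := by
  refine eq_lenSum (isAdd_icoef hχ L hL) d (fun G hG hGd => icoef_eq_zero hχ L hL G hG hGd) _ F hF ?_ hd
  intro ξ _ _
  exact ⟨ClSub.quotMod (vI ξ), isCoh_quotMod _, support_quotMod_vI ξ, length_quotMod_vI ξ, rfl⟩

end K424.IntSum
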