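import Groth.Agent.Variety.K424.KADimOne
import Groth.Agent.S2351
import Groth.Agent.Sga3C.DimTop
import Mathlib.AlgebraicGeometry.Noetherian

/-!
# The normalization of an integral locally Noetherian scheme of dimension one
-/

set_option autoImplicit false
universe u
open CategoryTheory CategoryTheory.Limits AlgebraicGeometry TopologicalSpace

namespace K424.NormDimOne

/-- At a point of an affine open whose prime ideal is maximal, evaluation is surjective. -/
theorem evaluation_surjective {X : Scheme.{u}} {U : X.Opens} (hU : IsAffineOpen U) (x : X) (hx : x ∈ U)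
    (hm : (hU.primeIdealOf ⟨x, hx⟩).asIdeal.IsMaximal) :
    Function.Surjective (X.evaluation U x hx).hom := by
  intro z
  obtain ⟨w, rfl⟩ := X.residue_surjective x z
  letI : Algebra Γ(X, U) (X.presheaf.stalk x) := TopCat.Presheaf.algebra_section_stalk X.presheaf ⟨x, hx⟩
  have hloc : IsLocalization.AtPrime (X.presheaf.stalk x) (hU.primeIdealOf ⟨x, hx⟩).asIdeal :=
    hU.isLocalization_stalk ⟨x, hx⟩
  obtain ⟨a, s, hs⟩ := IsLocalization.exists_mk'_eq (hU.primeIdealOf ⟨x, hx⟩).asIdeal.primeCompl w
  -- `s t + c = 1` with `c` in the maximal ideal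
  obtain ⟨t, c, hc, htc⟩ := hm.exists_inv (x := s.1) s.2
  refine ⟨a * t, ?_⟩
  have h1 : (X.evaluation U x hx).hom = (X.residue x).hom.comp (algebraMap Γ(X, U) (X.presheaf.stalk x)) := rfl
  rw [h1, RingHom.comp_apply]
  have h2 : algebraMap Γ(X, U) (X.presheaf.stalk x) a = w * algebraMap _ _ s.1 := by
    rw [← hs, IsLocalization.mk'_spec]
  have h3 : (X.residue x).hom (algebraMap Γ(X, U) (X.presheaf.stalk x) c) = 0 := by
    change (IsLocalRing.residue _) _ = 0
    rw [IsLocalRing.residue_eq_zero_iff]
    exact (IsLocalization.AtPrime.to_map_mem_maximal_iff (X.presheaf.stalk x)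
      (hU.primeIdealOf ⟨x, hx⟩).asIdeal c).2 hc
  have h4 : (X.residue x).hom (algebraMap Γ(X, U) (X.presheaf.stalk x) (s.1 * t)) = 1 := by
    have := congrArg (fun y => (X.residue x).hom (algebraMap Γ(X, U) (X.presheaf.stalk x) y)) htc
    simp only [map_add, map_one] at this
    rw [h3, add_zero, mul_comm t s.1] at this
    exact this
  rw [map_mul, h2, mul_assoc, ← map_mul, map_mul, h4, mul_one]

section

variable (X : Scheme.{u}) [IsIntegral X]
    [QuasiCompact (X.fromSpecStalk (genericPoint X))] [QuasiSeparated (X.fromSpecStalk (genericPoint X))]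

omit [QuasiCompact (X.fromSpecStalk (genericPoint X))] [QuasiSeparated (X.fromSpecStalk (genericPoint X))] in
/-- The sections over `fromSpecStalk ⁻¹ V` form a fraction field of `Γ(X, V)`. -/
theorem isFractionRing (V : X.Opens) (hV : IsAffineOpen V) (hVη : genericPoint X ∈ V) :
    letI := ((X.fromSpecStalk (genericPoint X)).app V).hom.toAlgebra
    IsFractionRing Γ(X, V) Γ(Spec (X.presheaf.stalk (genericPoint X)), (X.fromSpecStalk (genericPoint X)) ⁻¹ᵁ V) := by
  have hneV : Nonempty V := ⟨⟨_, hVη⟩⟩
  let g := X.fromSpecStalk (genericPoint X)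
  let algK : Algebra Γ(X, V) Γ(Spec (X.presheaf.stalk (genericPoint X)), g ⁻¹ᵁ V) := (g.app V).hom.toAlgebra
  have hpre : g ⁻¹ᵁ V = ⊤ := by
    rw [eq_top_iff]
    intro y _
    have h1 : g y ∈ Set.range g := ⟨y, rfl⟩
    rw [Scheme.range_fromSpecStalk] at h1
    exact (h1 : g y ⤳ genericPoint X).mem_open V.2 hVη
  have hiso : IsIso ((Spec (X.presheaf.stalk (genericPoint X))).presheaf.map
      (homOfLE (le_top : g ⁻¹ᵁ V ≤ ⊤)).op) := by
    have : IsIso (homOfLE (le_top : g ⁻¹ᵁ V ≤ ⊤)) := ⟨homOfLE hpre.ge, rfl, rfl⟩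
    infer_instance
  let e0 : X.functionField ≅ Γ(Spec (X.presheaf.stalk (genericPoint X)), g ⁻¹ᵁ V) :=
    (Scheme.ΓSpecIso (X.presheaf.stalk (genericPoint X))).symm ≪≫ @asIso _ _ _ _ _ hiso
  have hcomm : g.app V = X.germToFunctionField V ≫ e0.hom := Scheme.fromSpecStalk_app hVη
  let e1 : X.functionField ≃ₐ[Γ(X, V)] Γ(Spec (X.presheaf.stalk (genericPoint X)), g ⁻¹ᵁ V) :=
    { e0.commRingCatIsoToRingEquiv with
      commutes' := fun r => (congr($hcomm r)).symm }
  have hfr0 : IsFractionRing Γ(X, V) X.functionField := functionField_isFractionRing_of_isAffineOpen X V hV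
  exact IsLocalization.isLocalization_of_algEquiv _ e1

omit [IsIntegral X] [QuasiCompact (X.fromSpecStalk (genericPoint X))] [QuasiSeparated (X.fromSpecStalk (genericPoint X))] in
theorem krullDimLE_sections (hdim : topologicalKrullDim X ≤ 1) {V : X.Opens} (hV : IsAffineOpen V) :
    Ring.KrullDimLE 1 Γ(X, V) := by
  rw [Ring.KrullDimLE, Order.krullDimLE_iff]
  change ringKrullDim Γ(X, V) ≤ _
  rw [← PrimeSpectrum.topologicalKrullDim_eq_ringKrullDim]
  exact (hV.fromSpec.isOpenEmbedding.isInducing.topologicalKrullDim_le).trans hdim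

theorem affine_data [IsLocallyNoetherian X] (hdim : topologicalKrullDim X ≤ 1) (U : X.Opens)
    (hU : IsAffineOpen U) (hη : genericPoint X ∈ U) :
    letI := ((Curv2.normalizationι X).app U).hom.toAlgebra
    IsDedekindDomain Γ(Curv2.normalization X, Curv2.normalizationι X ⁻¹ᵁ U) ∧
    Function.Injective (algebraMap Γ(X, U) Γ(Curv2.normalization X, Curv2.normalizationι X ⁻¹ᵁ U)) ∧
    (∀ p : Ideal Γ(X, U), {q : PrimeSpectrum Γ(Curv2.normalization X, Curv2.normalizationι X ⁻¹ᵁ U) |
      q.asIdeal.comap (algebraMap Γ(X, U) _) = p}.Finite) ∧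
    ∀ q : Ideal Γ(Curv2.normalization X, Curv2.normalizationι X ⁻¹ᵁ U), q ≠ ⊥ →
      Module.Finite Γ(X, U) (Γ(Curv2.normalization X, Curv2.normalizationι X ⁻¹ᵁ U) ⧸ q) := by
  let f := X.fromSpecStalk (genericPoint X)
  let B := Γ(X, U)
  let C := Γ(Curv2.normalization X, Curv2.normalizationι X ⁻¹ᵁ U)
  let F := Γ(Spec (X.presheaf.stalk (genericPoint X)), f ⁻¹ᵁ U)
  letI algBC : Algebra B C := ((Curv2.normalizationι X).app U).hom.toAlgebra
  letI algBF : Algebra B F := (f.app U).hom.toAlgebra
  have hne : Nonempty U := ⟨⟨_, hη⟩⟩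
  have hBdom : IsDomain B := inferInstance
  have hBn : IsNoetherianRing B := IsLocallyNoetherian.component_noetherian ⟨U, hU⟩
  have hBk : Ring.KrullDimLE 1 B := krullDimLE_sections X hdim hU
  have hfr : IsFractionRing B F := isFractionRing X U hU hη
  let e : C ≅ CommRingCat.of (integralClosure B F) := f.normalizationObjIso hU
  have he : ((Curv2.normalizationι X).app U) = CommRingCat.ofHom (algebraMap B (integralClosure B F)) ≫ e.inv :=
    f.fromNormalization_app hU
  letI fldF : Field F := IsFractionRing.toField B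
  letI algCF : Algebra C F := ((integralClosure B F).val.toRingHom.comp e.hom.hom).toAlgebra
  have hBCF : IsScalarTower B C F := by
    refine IsScalarTower.of_algebraMap_eq fun b => ?_
    change algebraMap B F b = (integralClosure B F).val (e.hom.hom (((Curv2.normalizationι X).app U).hom b))
    rw [he]
    have : e.hom.hom ((CommRingCat.ofHom (algebraMap B (integralClosure B F)) ≫ e.inv).hom b) =
        algebraMap B (integralClosure B F) b := by
      change (e.inv ≫ e.hom).hom _ = _
      rw [e.inv_hom_id]
      rfl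
    rw [this]
    rfl
  have hbij : Function.Bijective e.hom.hom := ConcreteCategory.bijective_of_isIso e.hom
  have hIC : IsIntegralClosure C B F := by
    constructor
    · exact (Subtype.val_injective).comp hbij.1
    · intro x
      constructor
      · intro hx
        obtain ⟨y, hy⟩ := hbij.2 ⟨x, hx⟩
        refine ⟨y, ?_⟩
        change (integralClosure B F).val (e.hom.hom y) = x
        rw [hy]
        rfl
      · rintro ⟨y, rfl⟩
        exact (e.hom.hom y).2
  exact ⟨K424.KADimOne.isDedekindDomain B F C, K424.KADimOne.algebraMap_injective B F C,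
    fun p => K424.KADimOne.finite_primesOver B F C p,
    fun q hq => K424.KADimOne.finite_quotient B F C q hq⟩

theorem isIntegralHom_normalizationι : IsIntegralHom (Curv2.normalizationι X) :=
  inferInstanceAs (IsIntegralHom (X.fromSpecStalk (genericPoint X)).fromNormalization)

omit [QuasiCompact (X.fromSpecStalk (genericPoint X))] [QuasiSeparated (X.fromSpecStalk (genericPoint X))] in
theorem exists_affine (x : X) : ∃ U : X.Opens, IsAffineOpen U ∧ x ∈ U ∧ genericPoint X ∈ U := by
  obtain ⟨_, ⟨U, hU', rfl⟩, hxU, -⟩ :=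
    X.isBasis_affineOpens.exists_subset_of_mem_open (Set.mem_univ x) isOpen_univ
  exact ⟨U, hU', hxU, ((genericPoint_spec X).mem_open_set_iff U.isOpen).mpr (by simpa using ⟨_, hxU⟩)⟩

theorem comap_primeIdealOf (U : X.Opens) (hU : IsAffineOpen U)
    (hV : IsAffineOpen (Curv2.normalizationι X ⁻¹ᵁ U)) (x' : Curv2.normalization X)
    (hx' : x' ∈ Curv2.normalizationι X ⁻¹ᵁ U) :
    (hV.primeIdealOf ⟨x', hx'⟩).asIdeal.comap ((Curv2.normalizationι X).app U).hom =
      (hU.primeIdealOf ⟨Curv2.normalizationι X x', hx'⟩).asIdeal := by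
  have h := IsAffineOpen.comap_primeIdealOf_appLE (f := Curv2.normalizationι X) U hU _ hV le_rfl hx'
  have h2 := congrArg PrimeSpectrum.asIdeal h
  rw [← h2, Scheme.Hom.app_eq_appLE]
  rfl

theorem finite_fibre [IsLocallyNoetherian X] (hdim : topologicalKrullDim X ≤ 1) (x : X) :
    Finite {x' : ↥(Curv2.normalization X) // (Curv2.normalizationι X).base x' = x} := by
  obtain ⟨U, hU, hxU, hη⟩ := exists_affine X x
  have hI := isIntegralHom_normalizationι X
  have hV : IsAffineOpen (Curv2.normalizationι X ⁻¹ᵁ U) := hU.preimage _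
  obtain ⟨-, -, hfin, -⟩ := affine_data X hdim U hU hη
  have hfin' := (hfin (hU.primeIdealOf ⟨x, hxU⟩).asIdeal).to_subtype
  have hmem : ∀ x' : {x' : ↥(Curv2.normalization X) // (Curv2.normalizationι X).base x' = x},
      x'.1 ∈ Curv2.normalizationι X ⁻¹ᵁ U := by
    rintro ⟨x', rfl⟩
    exact hxU
  refine Finite.of_injective (β := {q : PrimeSpectrum Γ(Curv2.normalization X, Curv2.normalizationι X ⁻¹ᵁ U) |
      q.asIdeal.comap ((Curv2.normalizationι X).app U).hom = (hU.primeIdealOf ⟨x, hxU⟩).asIdeal})
    (fun x' => ⟨hV.primeIdealOf ⟨x'.1, hmem x'⟩, ?_⟩) ?_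
  · rw [Set.mem_ofPred_eq, comap_primeIdealOf X U hU hV x'.1 (hmem x')]
    congr 2
    exact Subtype.ext x'.2
  · intro a b hab
    have h1 : hV.primeIdealOf ⟨a.1, hmem a⟩ = hV.primeIdealOf ⟨b.1, hmem b⟩ := congrArg Subtype.val hab
    have h2 := congrArg hV.fromSpec h1
    rw [hV.fromSpec_primeIdealOf, hV.fromSpec_primeIdealOf] at h2
    exact Subtype.ext h2

theorem finite_residueField [IsLocallyNoetherian X] (hdim : topologicalKrullDim X ≤ 1)
    (x' : ↥(Curv2.normalization X)) :
    letI := ((Curv2.normalizationι X).residueFieldMap x').hom.toAlgebra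
    Module.Finite (X.residueField ((Curv2.normalizationι X).base x')) ((Curv2.normalization X).residueField x') := by
  obtain ⟨U, hU, hxU, hη⟩ := exists_affine X (Curv2.normalizationι X x')
  have hI := isIntegralHom_normalizationι X
  have hV : IsAffineOpen (Curv2.normalizationι X ⁻¹ᵁ U) := hU.preimage _
  obtain ⟨hD, hinj, -, hfin⟩ := affine_data X hdim U hU hη
  obtain ⟨hN, hnorm, hsurj, hgen, hbij⟩ := Groth.Agent.S2351.result X
  letI alg := ((Curv2.normalizationι X).residueFieldMap x').hom.toAlgebra
  let q := hV.primeIdealOf ⟨x', hxU⟩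
  by_cases hq : q.asIdeal = ⊥
  · have hne : Nonempty (Curv2.normalizationι X ⁻¹ᵁ U) := ⟨⟨x', hxU⟩⟩
    have hx' : x' = genericPoint (Curv2.normalization X) := by
      have h1 := hV.primeIdealOf_genericPoint
      have h2 : q = hV.primeIdealOf ⟨genericPoint (Curv2.normalization X),
        ((genericPoint_spec _).mem_open_set_iff (Curv2.normalizationι X ⁻¹ᵁ U).isOpen).mpr (by simpa using hne)⟩ := by
        rw [h1]
        have h3 : (⊥ : PrimeSpectrum Γ(Curv2.normalization X, Curv2.normalizationι X ⁻¹ᵁ U)) =
            genericPoint (Spec Γ(Curv2.normalization X, Curv2.normalizationι X ⁻¹ᵁ U)) :=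
          (genericPoint_eq_bot_of_affine _).symm
        rw [← h3]
        exact PrimeSpectrum.ext hq
      have h4 := congrArg hV.fromSpec h2
      rw [hV.fromSpec_primeIdealOf, hV.fromSpec_primeIdealOf] at h4
      exact h4
    have hb : Function.Surjective ((Curv2.normalizationι X).residueFieldMap x').hom := by
      rw [hx']
      exact hbij.2
    exact Module.Finite.of_surjective (Algebra.linearMap (X.residueField ((Curv2.normalizationι X).base x'))
      ((Curv2.normalization X).residueField x')) hb
  · have hm : q.asIdeal.IsMaximal := q.isPrime.isMaximal hq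
    have hs := evaluation_surjective hV x' hxU hm
    have hfq := hfin q.asIdeal hq
    letI algBC : Algebra Γ(X, U) Γ(Curv2.normalization X, Curv2.normalizationι X ⁻¹ᵁ U) :=
      ((Curv2.normalizationι X).app U).hom.toAlgebra
    let ev : Γ(X, U) →+* (Curv2.normalization X).residueField x' :=
      ((Curv2.normalization X).evaluation _ x' hxU).hom.comp ((Curv2.normalizationι X).app U).hom
    letI algBk : Algebra Γ(X, U) ((Curv2.normalization X).residueField x') := ev.toAlgebra
    letI algBk' : Algebra Γ(X, U) (X.residueField ((Curv2.normalizationι X).base x')) :=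
      (X.evaluation U (Curv2.normalizationι X x') hxU).hom.toAlgebra
    have htower : IsScalarTower Γ(X, U) (X.residueField ((Curv2.normalizationι X).base x'))
        ((Curv2.normalization X).residueField x') := by
      refine IsScalarTower.of_algebraMap_eq' ?_
      have h := Scheme.evaluation_naturality (Curv2.normalizationι X) x' hxU
      exact congrArg CommRingCat.Hom.hom h.symm
    -- the evaluation map factors through the quotient by `q`
    let φ : (Γ(Curv2.normalization X, Curv2.normalizationι X ⁻¹ᵁ U) ⧸ q.asIdeal) →ₗ[Γ(X, U)]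
        (Curv2.normalization X).residueField x' :=
      (Ideal.Quotient.liftₐ q.asIdeal
        ({ ((Curv2.normalization X).evaluation _ x' hxU).hom with commutes' := fun b => rfl } :
          Γ(Curv2.normalization X, Curv2.normalizationι X ⁻¹ᵁ U) →ₐ[Γ(X, U)] (Curv2.normalization X).residueField x')
        (fun a ha => by
          change ((Curv2.normalization X).evaluation _ x' hxU).hom a = 0
          letI : Algebra Γ(Curv2.normalization X, Curv2.normalizationι X ⁻¹ᵁ U) ((Curv2.normalization X).presheaf.stalk x') :=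
            TopCat.Presheaf.algebra_section_stalk (Curv2.normalization X).presheaf ⟨x', hxU⟩
          have hloc : IsLocalization.AtPrime ((Curv2.normalization X).presheaf.stalk x')
            (hV.primeIdealOf ⟨x', hxU⟩).asIdeal := hV.isLocalization_stalk ⟨x', hxU⟩
          change (IsLocalRing.residue _) (algebraMap _ ((Curv2.normalization X).presheaf.stalk x') a) = 0
          rw [IsLocalRing.residue_eq_zero_iff]
          exact (IsLocalization.AtPrime.to_map_mem_maximal_iff ((Curv2.normalization X).presheaf.stalk x')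
            (hV.primeIdealOf ⟨x', hxU⟩).asIdeal a).2 ha)).toLinearMap
    have hφ : Function.Surjective φ := by
      intro z
      obtain ⟨a, ha⟩ := hs z
      exact ⟨Ideal.Quotient.mk _ a, ha⟩
    have hf1 : Module.Finite Γ(X, U) ((Curv2.normalization X).residueField x') :=
      Module.Finite.of_surjective φ hφ
    exact Module.Finite.of_restrictScalars_finite Γ(X, U) _ _

theorem isLocallyNoetherian [IsLocallyNoetherian X] (hdim : topologicalKrullDim X ≤ 1) :
    IsLocallyNoetherian (Curv2.normalization X) := by
  have hI := isIntegralHom_normalizationι X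
  have hx := fun x' => exists_affine X (Curv2.normalizationι X x')
  choose U hU hxU hη using hx
  refine isLocallyNoetherian_of_affine_cover (S := fun x' => ⟨Curv2.normalizationι X ⁻¹ᵁ (U x'), (hU x').preimage _⟩) ?_ ?_
  · rw [eq_top_iff]
    intro x' _
    exact Opens.mem_iSup.mpr ⟨x', hxU x'⟩
  · intro x'
    have := (affine_data X hdim (U x') (hU x') (hη x')).1
    change IsNoetherianRing Γ(Curv2.normalization X, Curv2.normalizationι X ⁻¹ᵁ (U x'))
    infer_instance

theorem topologicalKrullDim_normalization_le (hdim : topologicalKrullDim X ≤ 1) :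
    topologicalKrullDim (Curv2.normalization X) ≤ 1 := by
  have hI := isIntegralHom_normalizationι X
  obtain ⟨hN, hnorm, hsurj, -⟩ := Groth.Agent.S2351.result X
  rw [Groth.Agent.Sga3C.DimTop.topologicalKrullDim_eq_of_isIntegralHom (Curv2.normalizationι X)]
  exact hdim

theorem isDedekindDomain_sections [IsLocallyNoetherian X] (hdim : topologicalKrullDim X ≤ 1)
    (U : (Curv2.normalization X).affineOpens)
    (hU : ((U : (Curv2.normalization X).Opens) : Set ↥(Curv2.normalization X)).Nonempty) :
    IsDedekindDomain Γ(Curv2.normalization X, (U : (Curv2.normalization X).Opens)) := by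
  obtain ⟨hN, hnorm, hsurj, -⟩ := Groth.Agent.S2351.result X
  have hne : Nonempty (U : (Curv2.normalization X).Opens) := hU.to_subtype
  have h1 : IsDomain Γ(Curv2.normalization X, (U : (Curv2.normalization X).Opens)) := inferInstance
  have hLN := isLocallyNoetherian X hdim
  have h2 : IsNoetherianRing Γ(Curv2.normalization X, (U : (Curv2.normalization X).Opens)) :=
    IsLocallyNoetherian.component_noetherian U
  have h3 : IsIntegrallyClosed Γ(Curv2.normalization X, (U : (Curv2.normalization X).Opens)) :=
    Groth.Agent.Ega2.Normal.isIntegrallyClosed_of_isAffineOpen hnorm U.2 hne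
  have h4 : Ring.KrullDimLE 1 Γ(Curv2.normalization X, (U : (Curv2.normalization X).Opens)) :=
    krullDimLE_sections _ (topologicalKrullDim_normalization_le X hdim) U.2
  have h5 := Groth.Agent.VarietyB.SemilocalDedekind.dimensionLEOne
    Γ(Curv2.normalization X, (U : (Curv2.normalization X).Opens))
  exact { h2, h5, h3, h1 with }

end

end K424.NormDimOne
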