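import Groth.Agent.VarietyB.FibreGeneric
import Groth.Agent.CycB.PushLen

/-!
# Transcendence degrees and residue degrees along a morphism of `k`-schemes
-/

set_option autoImplicit false
universe u
open CategoryTheory CategoryTheory.Limits AlgebraicGeometry Opposite TopologicalSpace

namespace K424.TrdMap

open Groth.Agent Groth.Agent.VarietyB.ResMap Groth.Agent.VarietyB.FibreGeneric

variable (k : Type u) [Field k] {X Y : Scheme.{u}} [X.Over (Spec (CommRingCat.of k))]
    [Y.Over (Spec (CommRingCat.of k))] (f : X ⟶ Y)
    (hf : f ≫ (Y ↘ (Spec (CommRingCat.of k))) = X ↘ (Spec (CommRingCat.of k)))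

include hf

/-- `trdeg κ(x)/k = trdeg κ(f x)/k + trdeg κ(x)/κ(f x)`. -/
theorem trd_add (x : X) :
    letI := (f.residueFieldMap x).hom.toAlgebra
    trd k X x = trd k Y (f x) + Algebra.trdeg (Y.residueField (f x)) (X.residueField x) := by
  let _ := (f.residueFieldMap x).hom.toAlgebra
  let _ := Curv2.resAlgebra k Y (f x)
  let _ := Curv2.resAlgebra k X x
  have : IsScalarTower k (Y.residueField (f x)) (X.residueField x) :=
    IsScalarTower.of_algebraMap_eq' (residueFieldMap_comp_resMap k f hf x).symm
  exact (_root_.trdeg_add_eq k (Y.residueField (f x)) (A := X.residueField x)).symm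

theorem trd_le (x : X) : trd k Y (f x) ≤ trd k X x := by
  rw [trd_add k f hf x]
  exact self_le_add_right _ _

/-- If the residue degree is nonzero then the transcendence degrees agree. -/
theorem trd_eq_of_residueDegree_ne_zero (x : X) (h : f.residueDegree x ≠ 0) : trd k X x = trd k Y (f x) := by
  rw [trd_add k f hf x]
  let _ := (f.residueFieldMap x).hom.toAlgebra
  have hfin : Module.Finite (Y.residueField (f x)) (X.residueField x) :=
    Module.finite_of_finrank_pos (Nat.pos_of_ne_zero h)
  have halg : Algebra.IsAlgebraic (Y.residueField (f x)) (X.residueField x) := inferInstance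
  rw [trdeg_eq_zero_iff.mpr halg, add_zero]

/-- If the transcendence degrees agree then the residue field extension is finite. -/
theorem residueFieldMap_finite [LocallyOfFiniteType f] [LocallyOfFiniteType (Y ↘ Spec (CommRingCat.of k))]
    (x : X) (h : trd k X x = trd k Y (f x)) : (f.residueFieldMap x).hom.Finite := by
  let := (f.residueFieldMap x).hom.toAlgebra
  have h1 := trd_add k f hf x
  rw [h] at h1
  have htr : Algebra.trdeg (Y.residueField (f x)) (X.residueField x) = 0 := by
    have h2 : trd k Y (f x) + 0 = trd k Y (f x) +
        Algebra.trdeg (Y.residueField (f x)) (X.residueField x) := by rw [add_zero]; exact h1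
    exact (Cardinal.eq_of_add_eq_add_left h2 (trd_lt_aleph0 k Y (f x))).symm
  have halg : Algebra.IsAlgebraic (Y.residueField (f x)) (X.residueField x) :=
    trdeg_eq_zero_iff.mp htr
  have hess : (f.residueFieldMap x).hom.EssFiniteType := by
    have h1 : (f.stalkMap x).hom.EssFiniteType := LocallyOfFiniteType.stalkMap f x
    have h2 : (X.residue x).hom.EssFiniteType :=
      (RingHom.FiniteType.of_surjective _ (X.residue_surjective _)).essFiniteType
    have h3 := h1.comp h2
    rw [← CommRingCat.hom_comp, ← Scheme.residue_residueFieldMap, CommRingCat.hom_comp] at h3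
    exact RingHom.EssFiniteType.of_comp _ h3
  have : Algebra.EssFiniteType (Y.residueField (f x)) (X.residueField x) := hess
  have : Module.Finite (Y.residueField (f x)) (X.residueField x) :=
    Algebra.finite_of_essFiniteType_of_isAlgebraic
  exact this

end K424.TrdMap
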