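import Groth.Agent.Pi1C.ZeroScheme
import Groth.Agent.Divis.IdealComap
import Groth.Agent.Fdesc.LocGenPullback
import Groth.Agent.Fdesc.LocGenGlue

/-!
# Zero schemes of sections: pull-back, isomorphisms, linear combinations, products

* `zeroScheme_comap`: `(Z(s)).comap f = Z(f^* s)`.
* `zeroScheme_iso`: `Z(s ≫ e) = Z(s)` for an isomorphism `e : L ≅ L'`.
* `zeroScheme_le_iSup`: if `s` is a combination of the `b i` then `Z(s) ≤ ⨆ Z(b i)`.
* `iSup_zeroScheme_tmul`: if the `t l` generate `M`, then `Z(s) = ⨆ l, Z(s ⊗ t l)`.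
-/

set_option autoImplicit false
universe u
open CategoryTheory CategoryTheory.Limits AlgebraicGeometry Opposite TopologicalSpace

namespace K424.ZeroPull

open Groth.Agent Groth.Agent.Fdesc.LocGen Groth.Agent.Divis.IdealComap Groth.Agent.Pi1C.ZeroScheme

variable {X Y : Scheme.{u}}

theorem appLE_eq (f : X ⟶ Y) {U : Y.Opens} {V : X.Opens} (e : V ≤ f ⁻¹ᵁ U) (c : Γ(Y, U)) :
    (f.appLE U V e).hom c = ores e ((f.app U).hom c) := rfl

theorem zeroScheme_comap (f : X ⟶ Y) {M : Y.Modules} (hM : PicF.IsInvertible M) (s : Coh.structureModule Y ⟶ M) :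
    (PicF2.zeroScheme M s).comap f = PicF2.zeroScheme ((Scheme.Modules.pullback f).obj M) (pullHom f s) := by
  refine ext_of_forall_mem fun x => ?_
  obtain ⟨T, e, hxT, he⟩ := (isInvertible_iff M).mp hM (f x)
  obtain ⟨U, V, -, hxV, -, hUT, hVU⟩ := exists_affine_le f x ⊤ trivial T hxT
  refine ⟨V, hxV, ?_⟩
  have heU := he.res hUT
  obtain ⟨c, hc⟩ := heU.exists_eq (sec s U.1)
  rw [ideal_comap _ f U V hVU, ideal_eq_span s hM U heU hc, Ideal.map_span, Set.image_singleton]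
  symm
  refine ideal_eq_span _ (isInvertible_pullback f hM) V ((heU.pullSec f).res hVU) ?_
  rw [← res_sec (pullHom f s) hVU, sec_pullHom, hc, pullSec_smul, res_smul, appLE_eq]

theorem zeroScheme_iso {L L' : X.Modules} (hL : PicF.IsInvertible L) (hL' : PicF.IsInvertible L') (e : L ≅ L')
    (s : Coh.structureModule X ⟶ L) : PicF2.zeroScheme L' (s ≫ e.hom) = PicF2.zeroScheme L s := by
  refine ext_of_forall_mem fun x => ?_
  obtain ⟨T, g, hxT, hg⟩ := (isInvertible_iff L).mp hL x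
  obtain ⟨U, hU, hxU, hUT⟩ := exists_isAffineOpen_mem_and_subset hxT
  refine ⟨⟨U, hU⟩, hxU, ?_⟩
  have hgU := hg.res hUT
  obtain ⟨c, hc⟩ := hgU.exists_eq (sec s U)
  rw [ideal_eq_span s hL ⟨U, hU⟩ hgU hc]
  refine ideal_eq_span _ hL' ⟨U, hU⟩ (hgU.app e.hom) ?_
  rw [sec_comp, hc]
  exact Scheme.Modules.Hom.app_smul e.hom _ _

/-- `Z(s) ≤ J` can be tested on an affine cover. -/
theorem le_of_forall_mem {I J : X.IdealSheafData} (h : ∀ x : X, ∃ U : X.affineOpens, x ∈ U.1 ∧ I.ideal U ≤ J.ideal U) :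
    I ≤ J := by
  have h1 : I ⊔ J = J := by
    refine ext_of_forall_mem fun x => ?_
    obtain ⟨U, hxU, hU⟩ := h x
    refine ⟨U, hxU, ?_⟩
    rw [Scheme.IdealSheafData.ideal_sup]
    exact sup_eq_right.mpr hU
  exact h1 ▸ le_sup_left

/-- A combination of sections vanishes on the common zero scheme. -/
theorem zeroScheme_le_iSup {L : X.Modules} (hL : PicF.IsInvertible L) {ι : Type*}
    (b : ι → (Coh.structureModule X ⟶ L)) (s : Coh.structureModule X ⟶ L)
    (h : sec s ⊤ ∈ Submodule.span Γ(X, ⊤) (Set.range fun i => sec (b i) ⊤)) :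
    PicF2.zeroScheme L s ≤ ⨆ i, PicF2.zeroScheme L (b i) := by
  refine le_of_forall_mem fun x => ?_
  obtain ⟨T, g, hxT, hg⟩ := (isInvertible_iff L).mp hL x
  obtain ⟨U, hU, hxU, hUT⟩ := exists_isAffineOpen_mem_and_subset hxT
  refine ⟨⟨U, hU⟩, hxU, ?_⟩
  have hgU := hg.res hUT
  choose c hc using fun i => hgU.exists_eq (sec (b i) U)
  obtain ⟨d, hd⟩ := hgU.exists_eq (sec s U)
  rw [ideal_eq_span s hL ⟨U, hU⟩ hgU hd, Ideal.span_singleton_le_iff_mem]
  have hle : Ideal.span (Set.range c) ≤ (⨆ i, PicF2.zeroScheme L (b i)).ideal ⟨U, hU⟩ := by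
    rw [Ideal.span_le]
    rintro _ ⟨i, rfl⟩
    have h1 : (PicF2.zeroScheme L (b i)).ideal ⟨U, hU⟩ ≤ (⨆ i, PicF2.zeroScheme L (b i)).ideal ⟨U, hU⟩ :=
      (le_iSup (fun i => PicF2.zeroScheme L (b i)) i) ⟨U, hU⟩
    refine h1 ?_
    rw [ideal_eq_span (b i) hL ⟨U, hU⟩ hgU (hc i)]
    exact Ideal.mem_span_singleton_self _
  refine hle ?_
  -- the restriction of the span
  have key : ∀ m ∈ Submodule.span Γ(X, ⊤) (Set.range fun i => sec (b i) ⊤),
      ∃ a ∈ Ideal.span (Set.range c), res L (le_top : U ≤ ⊤) m = a • res L hUT g := by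
    intro m hm
    induction hm using Submodule.span_induction with
    | mem m hm =>
      obtain ⟨i, rfl⟩ := hm
      exact ⟨c i, Ideal.subset_span ⟨i, rfl⟩, by rw [res_sec, hc i]⟩
    | zero => exact ⟨0, Ideal.zero_mem _, by rw [map_zero, zero_smul]⟩
    | add m m' _ _ h h' =>
      obtain ⟨a, ha, e⟩ := h
      obtain ⟨a', ha', e'⟩ := h'
      exact ⟨a + a', Ideal.add_mem _ ha ha', by rw [map_add, e, e', add_smul]⟩
    | smul r m _ h =>
      obtain ⟨a, ha, e⟩ := h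
      exact ⟨ores (le_top : U ≤ ⊤) r * a, Ideal.mul_mem_left _ _ ha, by rw [res_smul, e, mul_smul]⟩
  obtain ⟨a, ha, e⟩ := key _ h
  rw [res_sec, hd] at e
  rwa [hgU.ext e]

/-- If the `t l` generate `M`, then `Z(s)` is the union of the ideals of the `s ⊗ t l`. -/
theorem iSup_zeroScheme_tmul {L M : X.Modules} (hL : PicF.IsInvertible L) (hM : PicF.IsInvertible M)
    {ι : Type*} (t : ι → (Coh.structureModule X ⟶ M)) (ht : ∀ x : X, ∃ i, x ∈ CohB1.genLocus M (t i))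
    (s : Coh.structureModule X ⟶ L) :
    ⨆ i, PicF2.zeroScheme (CohB1.tensorMod L M) (tmulHom s (t i)) = PicF2.zeroScheme L s := by
  have hLM := isInvertible_tensorMod hL hM
  apply le_antisymm
  · refine iSup_le fun i => le_of_forall_mem fun x => ?_
    obtain ⟨T, g, hxT, hg⟩ := (isInvertible_iff L).mp hL x
    obtain ⟨T', g', hxT', hg'⟩ := (isInvertible_iff M).mp hM x
    obtain ⟨U, hU, hxU, hUT⟩ := exists_isAffineOpen_mem_and_subset (U := T ⊓ T') (x := x) ⟨hxT, hxT'⟩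
    refine ⟨⟨U, hU⟩, hxU, ?_⟩
    have h1 : U ≤ T := fun _ h => (hUT h).1
    have h2 : U ≤ T' := fun _ h => (hUT h).2
    have hgU := hg.res h1
    have hgU' := hg'.res h2
    obtain ⟨c, hc⟩ := hgU.exists_eq (sec s U)
    obtain ⟨d, hd⟩ := hgU'.exists_eq (sec (t i) U)
    have e1 : sec (tmulHom s (t i)) U = (c * d) • tmul (res L h1 g) (res M h2 g') := by
      rw [sec_tmulHom, hc, hd, smul_tmul, tmul_smul, smul_smul]
    rw [ideal_eq_span s hL ⟨U, hU⟩ hgU hc, ideal_eq_span _ hLM ⟨U, hU⟩ (hgU.tmul hgU') e1,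
      Ideal.span_singleton_le_iff_mem]
    exact Ideal.mul_mem_right _ _ (Ideal.mem_span_singleton_self _)
  · refine le_of_forall_mem fun x => ?_
    obtain ⟨i, hi⟩ := ht x
    obtain ⟨T, g, hxT, hg⟩ := (isInvertible_iff L).mp hL x
    obtain ⟨U, hU, hxU, hUT⟩ := exists_isAffineOpen_mem_and_subset (U := T ⊓ CohB1.genLocus M (t i)) (x := x)
      ⟨hxT, hi⟩
    refine ⟨⟨U, hU⟩, hxU, ?_⟩
    have h1 : U ≤ T := fun _ h => (hUT h).1
    have h2 : U ≤ CohB1.genLocus M (t i) := fun _ h => (hUT h).2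
    have hgU := hg.res h1
    have hgU' : IsGen (sec (t i) U) := by
      have := (isGen_sec_genLocus (t i)).res h2
      rwa [res_sec] at this
    obtain ⟨c, hc⟩ := hgU.exists_eq (sec s U)
    have e1 : sec (tmulHom s (t i)) U = c • tmul (res L h1 g) (sec (t i) U) := by
      rw [sec_tmulHom, hc, smul_tmul]
    have h3 : (PicF2.zeroScheme (CohB1.tensorMod L M) (tmulHom s (t i))).ideal ⟨U, hU⟩ ≤
        (⨆ i, PicF2.zeroScheme (CohB1.tensorMod L M) (tmulHom s (t i))).ideal ⟨U, hU⟩ :=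
      (le_iSup (fun i => PicF2.zeroScheme (CohB1.tensorMod L M) (tmulHom s (t i))) i) ⟨U, hU⟩
    refine le_trans (le_of_eq ?_) h3
    rw [ideal_eq_span s hL ⟨U, hU⟩ hgU hc, ideal_eq_span _ hLM ⟨U, hU⟩ (hgU.tmul hgU') e1]

end K424.ZeroPull
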