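import Groth.Agent.Variety.K424.UnifBdd
import Groth.Agent.Variety.K424.ZeroPull
import Groth.Agent.Pic13.K243.Pencil
import Groth.Agent.PicLoc.K728.KeyLift
import Groth.Agent.Constr.K591.KerGG
import Groth.Agent.Fga.RelCart
import Groth.Agent.VarietyB.DegCartier
import Groth.Agent.S12131
import Mathlib.AlgebraicGeometry.AffineSpace

/-!
# The family of intersections of `N` divisors of an invertible module is bounded

* `nonempty_pull_quotMod`: `f^* (O_Y / I) ≅ O_X / I.comap f`.
* `isBounded_inter`: for `X` proper over a field and `B` invertible, the structure modules of the closed subschemes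
  defined by `N` sections of `B` form a bounded family.
-/

set_option autoImplicit false
universe u
open CategoryTheory CategoryTheory.Limits AlgebraicGeometry TopologicalSpace Opposite

namespace K424.UnifFam

open Groth.Agent Groth.Agent.Fdesc.LocGen Groth.Agent.Pic13 K424.UnifBdd K424.ZeroPull K243.Pencil

/-- `f^* (O_Y / I) ≅ O_X / I.comap f`. -/
theorem nonempty_pull_quotMod {X Y : Scheme.{u}} (f : X ⟶ Y) (I : Y.IdealSheafData) :
    Nonempty ((Scheme.Modules.pullback f).obj (ClSub.quotMod I) ≅ ClSub.quotMod (I.comap f)) := by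
  have hq : Coh.IsQCoh (Coh.structureModule I.subscheme) := (CurvesB.UnitCoh.isCoh_structureModule I.subscheme).1
  have h1 := S12131.result I.subschemeι f _ (I.comap f).subschemeι (Groth.Agent.Fga.RelCart.isPullback_comap I f).flip
    (Coh.structureModule I.subscheme)
  obtain ⟨e⟩ := Ega3B.PullTensor.nonempty_pullUnitIso
    (((I.comapIso f).hom ≫ pullback.snd f I.subschemeι) : (I.comap f).subscheme ⟶ I.subscheme)
  exact ⟨@asIso _ _ _ _ _ h1 ≪≫ (Scheme.Modules.pushforward (I.comap f).subschemeι).mapIso e⟩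

theorem isCoh_inv {X : Scheme.{u}} {L : X.Modules} (hL : PicF.IsInvertible L) : Coh.IsCoh L :=
  VarietyA.EulerFinite.isCoh_of_iso (Ega2.Tens.lunit L)
    (Fga.TwistCoh.isCoh_tensor (CurvesB.UnitCoh.isCoh_structureModule X) hL)

theorem comap_iSup {X Y : Scheme.{u}} (f : X ⟶ Y) {ι : Type*} (I : ι → Y.IdealSheafData) :
    (⨆ i, I i).comap f = ⨆ i, (I i).comap f :=
  (Scheme.IdealSheafData.map_gc f).l_iSup

variable (k : Type u) [Field k] (X : Scheme.{u}) [X.Over (Spec (CommRingCat.of k))]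

section Fam

variable {T : Scheme.{u}} (q : T ⟶ Spec (CommRingCat.of k))

/-- The identification `(fst^* B)_t ≅ B`. -/
noncomputable def sliceIso (t : Spec (CommRingCat.of k) ⟶ T) (ht : t ≫ q = 𝟙 _) (B : X.Modules) :
    (Scheme.Modules.pullback (_root_.Pic13.sliceAt k X q t ht)).obj
      ((Scheme.Modules.pullback (pullback.fst (X ↘ Spec (CommRingCat.of k)) q)).obj B) ≅ B :=
  (Scheme.Modules.pullbackComp (_root_.Pic13.sliceAt k X q t ht)
    (pullback.fst (X ↘ Spec (CommRingCat.of k)) q)).app B ≪≫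
    (Scheme.Modules.pullbackCongr (H138.Slice.sliceAt_fst k X q t ht)).app B ≪≫
    (Scheme.Modules.pullbackId X).app B

theorem sliceIso_pullTop (t : Spec (CommRingCat.of k) ⟶ T) (ht : t ≫ q = 𝟙 _) {B : X.Modules} (b : Γ(B, ⊤)) :
    (sliceIso k X q t ht B).hom.app ⊤ (pullTop (_root_.Pic13.sliceAt k X q t ht)
      (pullTop (pullback.fst (X ↘ Spec (CommRingCat.of k)) q) b)) = b := by
  have h1 : ((Scheme.Modules.pullbackComp (_root_.Pic13.sliceAt k X q t ht)
      (pullback.fst (X ↘ Spec (CommRingCat.of k)) q)).hom.app B).app ⊤ (pullTop (_root_.Pic13.sliceAt k X q t ht)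
      (pullTop (pullback.fst (X ↘ Spec (CommRingCat.of k)) q) b)) = pullTop (_root_.Pic13.sliceAt k X q t ht ≫
      (pullback.fst (X ↘ Spec (CommRingCat.of k)) q)) b :=
    pullSec_comp' (_root_.Pic13.sliceAt k X q t ht) (pullback.fst (X ↘ Spec (CommRingCat.of k)) q) b
  have h2 : ((Scheme.Modules.pullbackCongr (H138.Slice.sliceAt_fst k X q t ht)).hom.app B).app ⊤
      (pullTop (_root_.Pic13.sliceAt k X q t ht ≫ (pullback.fst (X ↘ Spec (CommRingCat.of k)) q)) b) =
      pullTop (𝟙 X) b :=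
    (K728.KeyLift.pullSec_congr (H138.Slice.sliceAt_fst k X q t ht) b).trans (res_refl _ _)
  have h3 : ((Scheme.Modules.pullbackId X).hom.app B).app ⊤ (pullTop (𝟙 X) b) = b := K591.KerGG.pullSec_id b
  calc _ = ((Scheme.Modules.pullbackId X).hom.app B).app ⊤
        (((Scheme.Modules.pullbackCongr (H138.Slice.sliceAt_fst k X q t ht)).hom.app B).app ⊤
        (((Scheme.Modules.pullbackComp (_root_.Pic13.sliceAt k X q t ht)
          (pullback.fst (X ↘ Spec (CommRingCat.of k)) q)).hom.app B).app ⊤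
          (pullTop (_root_.Pic13.sliceAt k X q t ht) (pullTop (pullback.fst (X ↘ Spec (CommRingCat.of k)) q) b)))) := rfl
    _ = b := by rw [h1, h2, h3]

/-- The universal section with coefficients `a i`. -/
noncomputable def univSec {r : ℕ} (a : Fin r → Γ(T, ⊤)) {B : X.Modules} (b : Fin r → Γ(B, ⊤)) :
    Γ((Scheme.Modules.pullback (pullback.fst (X ↘ Spec (CommRingCat.of k)) q)).obj B, ⊤) :=
  ∑ i, ((pullback.snd (X ↘ Spec (CommRingCat.of k)) q).appTop.hom (a i)) •
    pullTop (pullback.fst (X ↘ Spec (CommRingCat.of k)) q) (b i)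

theorem pullTop_sum {Y Z : Scheme.{u}} (f : Y ⟶ Z) {M : Z.Modules} {r : ℕ} (m : Fin r → Γ(M, ⊤)) :
    pullTop f (∑ i, m i) = ∑ i, pullTop f (m i) :=
  map_sum (((Scheme.Modules.pullbackPushforwardAdjunction f).unit.app M).app ⊤).hom m _

theorem pullTop_smul {Y Z : Scheme.{u}} (f : Y ⟶ Z) {M : Z.Modules} (c : Γ(Z, ⊤)) (m : Γ(M, ⊤)) :
    pullTop f (c • m) = f.appTop.hom c • pullTop f m :=
  pullSec_smul f c m

theorem sliceIso_univSec (t : Spec (CommRingCat.of k) ⟶ T) (ht : t ≫ q = 𝟙 _) {r : ℕ} (a : Fin r → Γ(T, ⊤))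
    {B : X.Modules} (b : Fin r → Γ(B, ⊤)) (c : Fin r → k)
    (hc : ∀ i, t.appTop.hom (a i) = (Scheme.ΓSpecIso (CommRingCat.of k)).inv.hom (c i)) :
    (sliceIso k X q t ht B).hom.app ⊤ (pullTop (_root_.Pic13.sliceAt k X q t ht) (univSec k X q a b)) =
      ∑ i, gl (X := X) k (c i) • b i := by
  rw [univSec, pullTop_sum, map_sum]
  refine Finset.sum_congr rfl fun i _ => ?_
  rw [pullTop_smul, Scheme.Modules.Hom.app_smul, sliceIso_pullTop]
  congr 1
  have h1 : (_root_.Pic13.sliceAt k X q t ht).appTop.hom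
      ((pullback.snd (X ↘ Spec (CommRingCat.of k)) q).appTop.hom (a i)) =
      (X ↘ Spec (CommRingCat.of k)).appTop.hom (t.appTop.hom (a i)) := by
    have := congrArg (fun f => (Scheme.Hom.appTop f).hom (a i)) (H138.Slice.sliceAt_snd k X q t ht)
    simpa only [Scheme.Hom.comp_appTop, CommRingCat.hom_comp, RingHom.comp_apply] using this
  rw [h1, hc i]
  rfl

end Fam

/-- The family of the closed subschemes defined by `N` sections of `B` is bounded. -/
theorem isBounded_inter [IsProper (X ↘ Spec (CommRingCat.of k))] (B : X.Modules) (hB : PicF.IsInvertible B) (N : ℕ) :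
    _root_.Pic13.IsBounded k X (fun F => ∃ s : Fin N → (Coh.structureModule X ⟶ B),
      Nonempty (F ≅ ClSub.quotMod (⨆ j, PicF2.zeroScheme B (s j)))) := by
  have hN : IsLocallyNoetherian X := LocallyOfFiniteType.isLocallyNoetherian (X ↘ Spec (CommRingCat.of k))
  have hfin : Module.Finite k (Coh.HH X B 0) := S0002.result k X B (isCoh_inv hB) 0
  let r := Module.finrank k (Coh.HH X B 0)
  let bs := Module.finBasis k (Coh.HH X B 0)
  let b : Fin r → Γ(B, ⊤) := fun i => e0 B (bs i)
  let T : Scheme.{u} := AffineSpace (ULift.{u} (Fin N × Fin r)) (Spec (CommRingCat.of k))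
  let q : T ⟶ Spec (CommRingCat.of k) := T ↘ Spec (CommRingCat.of k)
  have hq : LocallyOfFinitePresentation q := by infer_instance
  have hq2 : IsAffineHom q := inferInstance
  let co : Fin N → Fin r → Γ(T, ⊤) := fun j i => AffineSpace.coord (Spec (CommRingCat.of k)) ⟨(j, i)⟩
  let U : Fin N → (Coh.structureModule (_root_.Pic13.prodK k X q) ⟶
      (Scheme.Modules.pullback (pullback.fst (X ↘ Spec (CommRingCat.of k)) q)).obj B) :=
    fun j => homOf (univSec k X q (co j) b)
  let I : (_root_.Pic13.prodK k X q).IdealSheafData := ⨆ j, PicF2.zeroScheme _ (U j)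
  refine ⟨T, q, inferInstance, inferInstance, ClSub.quotMod I, VarietyB.DegCartier.isCoh_quotMod I, ?_⟩
  rintro F ⟨s, ⟨eF⟩⟩
  let c : Fin N → Fin r → k := fun j i => bs.repr ((e0 B).symm (sec (s j) ⊤)) i
  let v : ULift.{u} (Fin N × Fin r) → Γ(Spec (CommRingCat.of k), ⊤) :=
    fun p => (Scheme.ΓSpecIso (CommRingCat.of k)).inv.hom (c p.down.1 p.down.2)
  let t : Spec (CommRingCat.of k) ⟶ T := AffineSpace.homOfVector (𝟙 _) v
  have ht : t ≫ q = 𝟙 _ := AffineSpace.homOfVector_over _ _
  have htc : ∀ j i, t.appTop.hom (co j i) = (Scheme.ΓSpecIso (CommRingCat.of k)).inv.hom (c j i) := fun j i =>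
    AffineSpace.homOfVector_appTop_coord (𝟙 _) v ⟨(j, i)⟩
  refine ⟨t, ht, ?_⟩
  obtain ⟨e1⟩ := nonempty_pull_quotMod (_root_.Pic13.sliceAt k X q t ht) I
  have hinv : PicF.IsInvertible ((Scheme.Modules.pullback (pullback.fst (X ↘ Spec (CommRingCat.of k)) q)).obj B) :=
    isInvertible_pullback _ hB
  have h2 : I.comap (_root_.Pic13.sliceAt k X q t ht) = ⨆ j, PicF2.zeroScheme B (s j) := by
    rw [comap_iSup]
    congr 1
    funext j
    rw [zeroScheme_comap _ hinv, ← zeroScheme_iso (isInvertible_pullback _ hinv) hB (sliceIso k X q t ht B)]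
    congr 1
    apply hom_ext_sec
    rw [sec_comp]
    have h3 : sec (pullHom (_root_.Pic13.sliceAt k X q t ht) (U j)) ⊤ =
        pullTop (_root_.Pic13.sliceAt k X q t ht) (univSec k X q (co j) b) := by
      refine (sec_pullHom (_root_.Pic13.sliceAt k X q t ht) (U j) ⊤).trans ?_
      rw [sec_homOf, res_refl]
      rfl
    refine Eq.trans (congrArg _ h3) ?_
    refine Eq.trans (sliceIso_univSec k X q t ht (co j) b (c j) (htc j)) ?_
    apply (e0 B).symm.injective
    rw [map_sum]
    have h4 : ∀ i, (e0 B).symm (gl (X := X) k (c j i) • b i) = c j i • bs i := fun i => by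
      rw [e0_symm_smul]
      exact congrArg _ ((e0 B).symm_apply_apply (bs i))
    rw [Finset.sum_congr rfl fun i _ => h4 i]
    exact bs.sum_repr _
  rw [h2] at e1
  exact ⟨e1 ≪≫ eF.symm⟩

end K424.UnifFam
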