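import Groth.Agent.Variety.K424.UnifGrowth
import Groth.Agent.Variety.K424.UnifFam
import Groth.Agent.Variety.K424.IntSum
import Groth.Agent.Variety.K433.HhatEq
import Groth.Agent.Vanish.K909.NefTens
import Groth.Agent.Surf.K456.Base
import Groth.Agent.TopDim.K284.Basic
import Groth.Agent.Fga.EulerLEAdd
import Groth.Agent.Fga.DimLt
import Groth.Agent.CurvesC.CurveNum
import Groth.Agent.Sga2lef.H24.ToPn
import Groth.Agent.Ega1.GlobGenPt
import Groth.Agent.S4277
import Groth.Agent.S4281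
import Groth.Agent.S4286
import Groth.Agent.S12111

/-!
# Uniform bounds for the cohomology of intersections of divisors

* `numEquivZero_inv`, `exists_gg`: a power of a very ample `A` makes all numerically trivial modules globally generated.
* `exists_fin_iSup`: the common zero scheme of any family of sections is the one of `h⁰` many of them.
* `finrank_pull_eq`: `h^i(Z, ι^* D^m) = h^i(X, O_Z ⊗ D^m)`.
-/

set_option autoImplicit false
universe u
open CategoryTheory CategoryTheory.Limits AlgebraicGeometry TopologicalSpace Opposite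

namespace K424.UnifFinal

open Groth.Agent Groth.Agent.Fdesc.LocGen Groth.Agent.Fga.PicMon Groth.Agent.Grpsch.PicGrp K433.Hq
open K424.ZeroPull K424.UnifFam K424.UnifBdd K424.UnifGrowth K243.Pencil K909.Kleiman K433.Growth

variable (k : Type u) [Field k] {X : Scheme.{u}} [X.Over (Spec (CommRingCat.of k))]

section

variable [IsProper (X ↘ Spec (CommRingCat.of k))]

theorem numEquivZero_inv {P Q : X.Modules} (hP : PicF.IsInvertible P) (hQ : PicF.IsInvertible Q)
    (h : mk Q hQ = (mk P hP)⁻¹) (hn : _root_.Pic13.IsNumEquivZero k X P) : _root_.Pic13.IsNumEquivZero k X Q := by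
  intro Y i _ hY hdim
  rw [curveDeg_eq_dOn k X i hdim hQ, h]
  have h1 := hn Y i hY hdim
  rw [curveDeg_eq_dOn k X i hdim hP] at h1
  have h2 := dOn_mul k X i hdim (mk P hP) (mk P hP)⁻¹
  have h3 := dOn_mul k X i hdim 1 1
  rw [mul_inv_cancel, h1, zero_add] at h2
  rw [one_mul] at h3
  omega

/-- A power of a very ample module makes all numerically trivial invertible modules globally generated. -/
theorem exists_gg [IsAlgClosed k] {A : X.Modules} (hA : PicF.IsInvertible A)
    (hAva : RelAmple.IsRelVeryAmplePn (X ↘ Spec (CommRingCat.of k)) A) :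
    ∃ n₁ : ℕ, ∀ (Q : X.Modules) (hQ : PicF.IsInvertible Q), _root_.Pic13.IsNumEquivZero k X Q →
      ∀ (M : X.Modules) (hM : PicF.IsInvertible M), mk M hM = mk Q hQ * mk A hA ^ n₁ → Curv2.IsGloballyGenerated M := by
  obtain ⟨r, j, hj, hjk, ⟨e⟩⟩ := Sga2lef.H24.ToPn.exists_closedImmersion (X ↘ Spec (CommRingCat.of k)) A hAva
  have hb : _root_.Pic13.IsBounded k X (fun L => PicF.IsInvertible L ∧ _root_.Pic13.IsNumEquivZero k X L) := by
    obtain ⟨T, q, h1, h2, F, hF, h3⟩ := S4281.result k X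
    exact ⟨T, q, h1, h2, F, hF, fun L hL => h3 L ⟨hL.1, S4277.result k X L hL.1 hL.2⟩⟩
  obtain ⟨⟨m, hm⟩, -⟩ := S4286.result k r X j hjk _ (fun L hL => isCoh_inv hL.1) hb
  refine ⟨m.toNat, fun Q hQ hQn M hM hMc => ?_⟩
  have h1 := (S12111.result k r j Q (isCoh_inv hQ) m (hm Q ⟨hQ, hQn⟩) m.toNat (Int.self_le_toNat m)).2
  have hpow : PicF.IsInvertible (CohB1.tensorPow A m.toNat) := isInvertible_tensorPow hA _
  have h2 : mk M hM = mk _ (isInvertible_tensorMod hQ hpow) := by
    rw [hMc, ← mk_mul_mk hQ hpow, mk_tensorPow hA]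
  obtain ⟨e1⟩ := (mk_eq_iff _ _).mp h2
  obtain ⟨e2⟩ := Ega3B.ProjFrame.nonempty_twistProjSpace_iso (r := r) k m.toNat
  obtain ⟨e3⟩ := Ega3B.PullTensor.nonempty_pullPowIso j (Sga67.SerreVB.isInvertible_twist r k 1) m.toNat
  obtain ⟨e4⟩ := S2329.nonempty_tensorPow_iso e.symm m.toNat
  exact S2329.isGloballyGenerated_of_iso (Ega2.Tens.mapTIso (Iso.refl Q)
    ((Scheme.Modules.pullback j).mapIso e2 ≪≫ e3 ≪≫ e4) ≪≫ e1.symm) h1

omit [IsProper (X ↘ Spec (CommRingCat.of k))] in
theorem e0_mem_span {B : X.Modules} {μ : Type*} (z : μ → Coh.HH X B 0) (w : Coh.HH X B 0)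
    (hw : w ∈ Submodule.span k (Set.range z)) : e0 B w ∈ Submodule.span Γ(X, ⊤) (Set.range fun i => e0 B (z i)) := by
  induction hw using Submodule.span_induction with
  | mem m hm =>
    obtain ⟨i, rfl⟩ := hm
    exact Submodule.subset_span ⟨i, rfl⟩
  | zero => rw [map_zero]; exact Submodule.zero_mem _
  | add m m' _ _ h h' => rw [map_add]; exact Submodule.add_mem _ h h'
  | smul c m _ h => rw [e0_smul]; exact Submodule.smul_mem _ _ h

/-- The common zero scheme of any family of sections is the common zero scheme of `h⁰` sections. -/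
theorem exists_fin_iSup {B : X.Modules} (hB : PicF.IsInvertible B) {κ : Type*} (σ : κ → (Coh.structureModule X ⟶ B)) :
    ∃ s : Fin (Module.finrank k (Coh.HH X B 0)) → (Coh.structureModule X ⟶ B),
      ⨆ i, PicF2.zeroScheme B (σ i) = ⨆ j, PicF2.zeroScheme B (s j) := by
  have hN : IsLocallyNoetherian X := LocallyOfFiniteType.isLocallyNoetherian (X ↘ Spec (CommRingCat.of k))
  have hfin : Module.Finite k (Coh.HH X B 0) := S0002.result k X B (isCoh_inv hB) 0
  let bs := Module.finBasis k (Coh.HH X B 0)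
  let x : κ → Coh.HH X B 0 := fun i => (e0 B).symm (sec (σ i) ⊤)
  let W : Submodule k (Coh.HH X B 0) := Submodule.span k (Set.range x)
  obtain ⟨g, hg⟩ := LinearMap.exists_leftInverse_of_injective W.subtype (Submodule.ker_subtype W)
  let y : Fin (Module.finrank k (Coh.HH X B 0)) → Coh.HH X B 0 := fun j => (g (bs j) : Coh.HH X B 0)
  let s : Fin (Module.finrank k (Coh.HH X B 0)) → (Coh.structureModule X ⟶ B) := fun j => homOf (e0 B (y j))
  have hs : ∀ j, sec (s j) ⊤ = e0 B (y j) := fun j => by rw [sec_homOf, res_refl]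
  have hσ : ∀ i, sec (σ i) ⊤ = e0 B (x i) := fun i => ((e0 B).apply_symm_apply _).symm
  refine ⟨s, le_antisymm (iSup_le fun i => ?_) (iSup_le fun j => ?_)⟩
  · refine zeroScheme_le_iSup hB s (σ i) ?_
    simp only [hs]
    rw [hσ]
    refine e0_mem_span k y (x i) ?_
    have h1 : x i = (g (x i) : Coh.HH X B 0) := by
      have := LinearMap.congr_fun hg ⟨x i, Submodule.subset_span ⟨i, rfl⟩⟩
      exact (congrArg Subtype.val this).symm
    rw [h1, ← bs.sum_repr (x i), map_sum, AddSubmonoidClass.coe_finsetSum]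
    refine Submodule.sum_mem _ fun j _ => ?_
    rw [map_smul, Submodule.coe_smul]
    exact Submodule.smul_mem _ _ (Submodule.subset_span ⟨j, rfl⟩)
  · refine zeroScheme_le_iSup hB σ (s j) ?_
    simp only [hσ]
    rw [hs]
    have h2 : y j ∈ Submodule.span k (Set.range x) := (g (bs j)).2
    exact e0_mem_span k x (y j) h2

omit [IsProper (X ↘ Spec (CommRingCat.of k))] in
/-- `h^i(Z, ι^* D^m) = h^i(X, O_Z ⊗ D^m)`. -/
theorem finrank_pull_eq {Z : Scheme.{u}} [Z.Over (Spec (CommRingCat.of k))] (ι : Z ⟶ X) [IsClosedImmersion ι]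
    (hι : ι ≫ (X ↘ Spec (CommRingCat.of k)) = Z ↘ Spec (CommRingCat.of k)) {D : X.Modules} (hD : PicF.IsInvertible D)
    (m i : ℕ) : Module.finrank k (Coh.HH Z ((Scheme.Modules.pullback ι).obj (CohB1.tensorPow D m)) i) =
      hq k i (ClSub.quotMod ι.ker) (mk D hD ^ m) := by
  have hDm : PicF.IsInvertible (CohB1.tensorPow D m) := isInvertible_tensorPow hD m
  rw [← K433.Growth.hq_tensorPow k i (ClSub.quotMod ι.ker) hD m]
  obtain ⟨e⟩ := K456.Base.quotIso ι
  rw [hh_iso k (Ega2.Tens.mapTIso e (Iso.refl _) ≪≫ Ega2.Tens.swap _ _ ≪≫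
    VarietyB.ProjForm.projIsoUnit ι (K456.Base.hasBases hDm))]
  exact (CurvesC.CurveNum.hhPushₗ k ι hι _ i).finrank_eq

omit [X.Over (Spec (CommRingCat.of k))] [IsProper (X ↘ Spec (CommRingCat.of k))] in
theorem dimLT_quotMod_ker {Z : Scheme.{u}} (ι : Z ⟶ X) [IsClosedImmersion ι] (d : ℕ)
    (h : ∀ W ∈ irreducibleComponents ↥Z, topologicalKrullDim ↥W = (d : WithBot ℕ∞)) :
    DimLT (𝟙 X) (d + 1) (ClSub.quotMod ι.ker) := by
  have h1 : CohB1.support (ClSub.quotMod ι.ker) ⊆ Set.range ι := by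
    refine (K424.IntSum.support_quotMod_subset ι.ker).trans ?_
    rw [Scheme.Hom.support_ker, ι.isClosedEmbedding.isClosed_range.closure_eq]
  have h2 : topologicalKrullDim (Set.range ι) ≤ topologicalKrullDim Z :=
    (ι.isClosedEmbedding.isEmbedding.toHomeomorph.symm.isInducing).topologicalKrullDim_le
  have h3 : topologicalKrullDim Z ≤ (d : WithBot ℕ∞) := by
    rw [K284.TopDim.dim_eq_iSup_irreducibleComponents]
    exact iSup₂_le fun W hW => (h W hW).le
  exact K433.Growth.dimLT_id_iff.mpr (K433.Growth.lt_succ_of_le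
    (((Fga.DimLt.topologicalKrullDim_mono h1).trans h2).trans h3))

/-- The uniform bound for the common zero schemes of `N` sections of `B`. -/
theorem exists_uniform [Infinite k] {A : X.Modules} (hA : CohB1.IsAmple A) {B : X.Modules} (hB : PicF.IsInvertible B)
    (N e : ℕ) (g : Pic X) (q : ℕ) :
    ∃ C : ℕ, ∀ I : X.IdealSheafData, (∃ s : Fin N → (Coh.structureModule X ⟶ B), I = ⨆ j, PicF2.zeroScheme B (s j)) →
      DimLT (𝟙 X) e (ClSub.quotMod I) → ∀ m : ℕ, hq k q (ClSub.quotMod I) (g ^ m) ≤ C * phi e m := by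
  have h1 := nb_of_isBounded X (isBounded_inter k X B hB N)
  obtain ⟨C, hC⟩ := growth k hA g e (fun F => (∃ s : Fin N → (Coh.structureModule X ⟶ B),
      Nonempty (F ≅ ClSub.quotMod (⨆ j, PicF2.zeroScheme B (s j)))) ∧ DimLT (𝟙 X) e F)
    (fun F hF => by
      obtain ⟨⟨s, ⟨e⟩⟩, -⟩ := hF
      exact Sga67.CohBasic.isCoh_of_iso e.symm (VarietyB.DegCartier.isCoh_quotMod _))
    (fun F hF => hF.2)
    (fun c p => by
      obtain ⟨C, hC⟩ := h1 c p
      exact ⟨C, fun F hF => hC F hF.1⟩) 1 q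
  refine ⟨C, fun I hI hd m => ?_⟩
  obtain ⟨s, rfl⟩ := hI
  have := hC _ ⟨⟨s, ⟨Iso.refl _⟩⟩, hd⟩ m
  rwa [mul_one] at this

/-- The common zero scheme of sections of `L` is the common zero scheme of sections of `B`, if `B ≅ L ⊗ M` with `M`
globally generated. -/
theorem exists_iSup_eq {L M B : X.Modules} (hL : PicF.IsInvertible L) (hM : PicF.IsInvertible M)
    (hB : PicF.IsInvertible B) (e : CohB1.tensorMod L M ≅ B) (hg : Curv2.IsGloballyGenerated M) {r : ℕ}
    (s : Fin r → (Coh.structureModule X ⟶ L)) :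
    ∃ s' : Fin (Module.finrank k (Coh.HH X B 0)) → (Coh.structureModule X ⟶ B),
      ⨆ i, PicF2.zeroScheme L (s i) = ⨆ j, PicF2.zeroScheme B (s' j) := by
  obtain ⟨s', hs'⟩ := exists_fin_iSup k hB
    (fun p : Fin r × (Coh.structureModule X ⟶ M) => tmulHom (s p.1) p.2 ≫ e.hom)
  refine ⟨s', ?_⟩
  rw [← hs', iSup_prod]
  refine iSup_congr fun i => ?_
  rw [← iSup_zeroScheme_tmul hL hM (fun t : Coh.structureModule X ⟶ M => t)
    (fun x => Ega1.GlobGenPt.exists_mem_genLocus hM hg x) (s i)]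
  exact iSup_congr fun t => (zeroScheme_iso (isInvertible_tensorMod hL hM) hB e _).symm

end

end K424.UnifFinal
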