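import Groth.Agent.Variety.K424.PushLenZ
import Groth.Agent.Variety.K424.PushCoef
import Groth.Agent.Ega2.Normal

/-!
# Projection formula for intersection numbers
-/

set_option autoImplicit false
universe u
open CategoryTheory CategoryTheory.Limits AlgebraicGeometry Opposite TopologicalSpace

namespace K424.PushFinal

open Groth.Agent Groth.Agent.Fga.ChiBasic K424.IntCoef K424.PushCoef K424.PushLenZ K424.IntSum K424.CoefPoly
open Groth.Agent.VarietyB.ResMap Groth.Agent.VarietyB.FibreGeneric

theorem hasBases {X : Scheme.{u}} {L : X.Modules} (hL : PicF.IsInvertible L) : VarietyB.TensCoh.HasBases L :=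
  VarietyB.ExactLoc.hasBasis_of_isFinLocFreeOfRank
    (Ega2.QCohLocal.isFinLocFreeOfRank_one_iff.mpr hL)

section

variable (k : Type u) [Field k] {Z X : Scheme.{u}} [X.Over (Spec (CommRingCat.of k))]
    [Z.Over (Spec (CommRingCat.of k))] (g : Z ⟶ X)
    (hg : g ≫ (X ↘ (Spec (CommRingCat.of k))) = Z ↘ (Spec (CommRingCat.of k)))
    [IsProper (X ↘ Spec (CommRingCat.of k))] [IsProper (Z ↘ Spec (CommRingCat.of k))]

include hg

/-- `icoef` of `F` on the source in terms of the higher direct images. -/
theorem icoef_eq_sum [HasInjectiveResolutions Z.Modules] (F : Z.Modules) (hF : Coh.IsCoh F) {d : ℕ}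
    (L : Fin d → X.Modules) (hL : ∀ i, PicF.IsInvertible (L i)) :
    ∃ N : ℕ, icoef (Curv2.euler k Z) (fun i => (Scheme.Modules.pullback g).obj (L i)) F =
      ∑ i ∈ Finset.range (N + 1), (-1 : ℤ) ^ i * icoef (Curv2.euler k X) L ((Coh.Rpush g i).obj F) := by
  have hprop : IsProper (g ≫ (X ↘ (Spec (CommRingCat.of k)))) := by rw [hg]; infer_instance
  have hgp : IsProper g := IsProper.of_comp g (X ↘ (Spec (CommRingCat.of k)))
  have hNX := Fga.SnapperTwist.isNoetherian_of_proper k X
  have hNZ := Fga.SnapperTwist.isNoetherian_of_proper k Z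
  obtain ⟨N, hN⟩ := S0031.result g
  refine ⟨N, ?_⟩
  have hzero : ∀ i, N ≤ i → IsZero ((Coh.Rpush g i).obj F) := fun i hi =>
    (Ega4B.RpushCompare.isZero_rpush_iff g F i).mpr (hN F hF.1 i hi)
  have hadd := isAdd_euler k X
  have h1 : ∀ n : Fin d → ℕ,
      Curv2.euler k Z (Curv2.tensorPows F d (fun i => (Scheme.Modules.pullback g).obj (L i)) n) =
      ∑ i ∈ Finset.range (N + 1), (-1 : ℤ) ^ i * Curv2.euler k X (Curv2.tensorPows ((Coh.Rpush g i).obj F) d L n) := by
    intro n
    rw [euler_push k g hg F hF L hL n]
    refine finsum_eq_sum_of_support_subset _ ?_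
    intro i hi
    rw [Finset.coe_range, Set.mem_Iio]
    by_contra hlt
    apply hi
    have hz := hzero i (by omega)
    have h2 : Curv2.euler k X (Curv2.tensorPows ((Coh.Rpush g i).obj F) d L n) = 0 :=
      chi_isZero (isAdd_tensorPows hadd L hL n) hz
    simp only [h2, mul_zero]
  unfold icoef
  simp_rw [h1, Finset.mul_sum]
  rw [Finset.sum_comm]
  refine Finset.sum_congr rfl fun i _ => ?_
  refine Finset.sum_congr rfl fun S _ => ?_
  ring

omit [IsProper (X ↘ Spec (CommRingCat.of k))] [IsProper (Z ↘ Spec (CommRingCat.of k))] in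
theorem dim_closure_le [LocallyOfFiniteType (X ↘ Spec (CommRingCat.of k))]
    [LocallyOfFiniteType (Z ↘ Spec (CommRingCat.of k))] [IsIntegral Z] (d : ℕ) (hd : topologicalKrullDim Z = d) :
    topologicalKrullDim (closure ({g (genericPoint Z)} : Set X)) ≤ (d : WithBot ℕ∞) := by
  obtain ⟨m, hm⟩ := exists_trd_eq k X (g (genericPoint Z))
  rw [dim_closure_eq k X _ m hm]
  have h1 := TrdMap.trd_le k g hg (genericPoint Z)
  rw [hm, (dim_eq_iff k Z d).mp hd] at h1
  have : m ≤ d := by exact_mod_cast h1
  exact_mod_cast this

omit hg [X.Over (Spec (CommRingCat.of k))] [Z.Over (Spec (CommRingCat.of k))]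
    [IsProper (X ↘ Spec (CommRingCat.of k))] [IsProper (Z ↘ Spec (CommRingCat.of k))] in
theorem range_eq_closure [IsIntegral Z] (hcl : IsClosedMap g) :
    Set.range g = closure ({g (genericPoint Z)} : Set X) := by
  apply subset_antisymm
  · rintro _ ⟨z, rfl⟩
    exact ((genericPoint_specializes z).map g.continuous).mem_closure
  · exact closure_minimal (Set.singleton_subset_iff.mpr ⟨_, rfl⟩) hcl.isClosed_range

/-- **Projection formula**, integral source. -/
theorem icoef_push [IsIntegral Z] (d : ℕ) (hd : topologicalKrullDim Z = d)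
    (L : Fin d → X.Modules) (hL : ∀ i, PicF.IsInvertible (L i)) :
    icoef (Curv2.euler k Z) (fun i => (Scheme.Modules.pullback g).obj (L i)) (Coh.structureModule Z) =
      (g.residueDegree (genericPoint Z) : ℤ) * icoef (Curv2.euler k X) L (ClSub.quotMod g.ker) ∧
    topologicalKrullDim (CohB1.support (ClSub.quotMod g.ker)) ≤ (d : WithBot ℕ∞) := by
  have hprop : IsProper (g ≫ (X ↘ (Spec (CommRingCat.of k)))) := by rw [hg]; infer_instance
  have hgp : IsProper g := IsProper.of_comp g (X ↘ (Spec (CommRingCat.of k)))
  have hNX := Fga.SnapperTwist.isNoetherian_of_proper k X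
  have hNZ := Fga.SnapperTwist.isNoetherian_of_proper k Z
  have hEI := VarietyB.HHPush.enoughInjectives Z
  have hIR : HasInjectiveResolutions Z.Modules := inferInstance
  have hadd := isAdd_euler k X
  have hO : Coh.IsCoh (Coh.structureModule Z) := Fdesc.StructMod.isCoh_structureModule _
  have hrange := range_eq_closure g g.isClosedMap
  have hdim := dim_closure_le k g hg d hd
  set ξ := g (genericPoint Z) with hξ
  -- coherence and supports of the higher direct images
  have hRc : ∀ i, Coh.IsCoh ((Coh.Rpush g i).obj (Coh.structureModule Z)) := fun i => S0036.result g _ hO i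
  have hsupp : ∀ i, CohB1.support ((Coh.Rpush g i).obj (Coh.structureModule Z)) ⊆ closure {ξ} := by
    intro i
    rw [← hrange]
    rcases Nat.eq_zero_or_pos i with rfl | hi
    · rw [CohqB.DevSupport.support_congr ((rpushZero g).app (Coh.structureModule Z))]
      exact support_push_subset g g.isClosedMap _
    · intro x hx
      by_contra hn
      refine Vancyc.H175.FibSupp.not_mem_support_rpush g hO i hi x ?_ hx
      have : g.base ⁻¹' {x} = ∅ := by
        ext z
        simp only [Set.mem_preimage, Set.mem_singleton_iff, Set.mem_empty_iff_false, iff_false]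
        rintro rfl
        exact hn ⟨z, rfl⟩
      rw [this]
      exact Set.finite_empty
  -- the scheme-theoretic image
  have hint : IsIntegral g.ker.subscheme := Ega2.Normal.isIntegral_image g
  have hker_gen : g.ker.subschemeι (genericPoint g.ker.subscheme) = ξ := by
    have h1 : g.toImage (genericPoint Z) = genericPoint g.image := by
      have hdom : IsDominant g.toImage := inferInstance
      have h2 : IsGenericPoint (g.toImage (genericPoint Z)) (Set.univ : Set g.image) := by
        have h3 := (genericPoint_spec Z).image g.toImage.continuous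
        rw [Set.image_univ, hdom.denseRange.closure_range] at h3
        exact h3
      exact h2.eq (genericPoint_spec _)
    have h4 : (g.toImage ≫ g.imageι) (genericPoint Z) = ξ := by rw [g.toImage_imageι]
    have h5 : g.imageι (g.toImage (genericPoint Z)) = ξ := h4
    rw [h1] at h5
    exact h5
  have hker_supp : CohB1.support (ClSub.quotMod g.ker) ⊆ closure {ξ} := by
    refine (support_quotMod_subset g.ker).trans ?_
    rw [← g.ker.range_subschemeι]
    have h1 := range_eq_closure g.ker.subschemeι g.ker.subschemeι.isClosedEmbedding.isClosedMap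
    rw [h1, hker_gen]
  have hker_len : Module.length (X.presheaf.stalk ξ) ((ClSub.quotMod g.ker).presheaf.stalk ξ) = 1 := by
    have h := length_push_genericPoint g.ker.subschemeι
    rw [hker_gen] at h
    exact h
  have hker_dim : topologicalKrullDim (CohB1.support (ClSub.quotMod g.ker)) ≤ (d : WithBot ℕ∞) :=
    (Fga.DimLt.topologicalKrullDim_mono hker_supp).trans hdim
  refine ⟨?_, hker_dim⟩
  obtain ⟨N, hN⟩ := icoef_eq_sum k g hg (Coh.structureModule Z) hO L hL
  rw [hN]
  by_cases hlt : topologicalKrullDim (closure ({ξ} : Set X)) = (d : WithBot ℕ∞)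
  · -- equal dimensions
    have hfib : ∀ z, g z = ξ → z = genericPoint Z := fun z hz =>
      eq_genericPoint_of_map_eq k g hg d hd hlt z hz
    have hpos : ∀ i, 0 < i → icoef (Curv2.euler k X) L ((Coh.Rpush g i).obj (Coh.structureModule Z)) = 0 := by
      intro i hi
      refine icoef_eq_zero hadd L hL _ (hRc i) ?_
      have hnot : ξ ∉ CohB1.support ((Coh.Rpush g i).obj (Coh.structureModule Z)) := by
        refine Vancyc.H175.FibSupp.not_mem_support_rpush g hO i hi ξ ?_
        refine (Set.finite_singleton (genericPoint Z)).subset ?_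
        intro z hz
        exact hfib z hz
      refine Fga.DimLt.topologicalKrullDim_lt isIrreducible_singleton.closure
        (Ega3B.Devissage.isClosed_support (hRc i)) (hsupp i) ?_ ?_
      · intro he
        apply hnot
        rw [he]
        exact subset_closure rfl
      · rw [hlt]
        exact_mod_cast Nat.lt_succ_self d
    rw [Finset.sum_range_succ', Finset.sum_eq_zero, zero_add, pow_zero, one_mul]
    · -- the term of degree zero
      have h0 : icoef (Curv2.euler k X) L ((Coh.Rpush g 0).obj (Coh.structureModule Z)) =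
          icoef (Curv2.euler k X) L ((Scheme.Modules.pushforward g).obj (Coh.structureModule Z)) :=
        chi_iso (isAdd_icoef hadd L hL) ((rpushZero g).app (Coh.structureModule Z)) (hRc 0)
      have hpc : Coh.IsCoh ((Scheme.Modules.pushforward g).obj (Coh.structureModule Z)) :=
        Sga67.CohBasic.isCoh_of_iso ((rpushZero g).app (Coh.structureModule Z)) (hRc 0)
      have hps : CohB1.support ((Scheme.Modules.pushforward g).obj (Coh.structureModule Z)) ⊆ closure {ξ} := by
        rw [← hrange]
        exact support_push_subset g g.isClosedMap _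
      have h1 : icoef (Curv2.euler k X) L ((Scheme.Modules.pushforward g).obj (Coh.structureModule Z)) =
          LenSum.lenSum d (fun _ => icoef (Curv2.euler k X) L (ClSub.quotMod g.ker))
            ((Scheme.Modules.pushforward g).obj (Coh.structureModule Z)) := by
        refine LenSum.eq_lenSum (isAdd_icoef hadd L hL) d (fun G hG hGd => icoef_eq_zero hadd L hL G hG hGd)
          _ _ hpc ?_ ((Fga.DimLt.topologicalKrullDim_mono hps).trans hdim)
        intro ζ hζ hζd
        have h2 : ζ = ξ := (LenSum.eq_of_specializes isClosed_closure hdim (subset_closure rfl) hζd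
          (specializes_iff_mem_closure.mpr (hps hζ))).symm
        subst h2
        exact ⟨ClSub.quotMod g.ker, isCoh_quotMod _, hker_supp, hker_len, rfl⟩
      rw [h0, h1]
      unfold LenSum.lenSum
      rw [finsum_eq_single _ ξ]
      · unfold LenSum.term
        rw [if_pos hlt]
        have h3 := length_push k g hg d hd hlt
        rw [h3]
        rfl
      · intro ζ hζ
        by_cases hζd : topologicalKrullDim (closure ({ζ} : Set X)) = (d : WithBot ℕ∞)
        · refine LenSum.term_eq_zero_of_notMem d _ _ ζ fun hmem => ?_
          exact hζ (LenSum.eq_of_specializes isClosed_closure hdim (subset_closure rfl) hζd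
            (specializes_iff_mem_closure.mpr (hps hmem))).symm
        · exact LenSum.term_eq_zero_of_dim d _ _ ζ hζd
    · intro i _
      rw [hpos (i + 1) (Nat.succ_pos i), mul_zero]
  · -- dimension drops
    have hlt' : topologicalKrullDim (closure ({ξ} : Set X)) < (d : WithBot ℕ∞) := lt_of_le_of_ne hdim hlt
    rw [icoef_eq_zero hadd L hL _ (isCoh_quotMod g.ker)
      (lt_of_le_of_lt (Fga.DimLt.topologicalKrullDim_mono hker_supp) hlt'), mul_zero]
    refine Finset.sum_eq_zero fun i _ => ?_
    rw [icoef_eq_zero hadd L hL _ (hRc i)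
      (lt_of_le_of_lt (Fga.DimLt.topologicalKrullDim_mono (hsupp i)) hlt'), mul_zero]

end

end K424.PushFinal
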