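import Groth.Agent.Variety.K424.DeltaBC
import Groth.Agent.Variety.K424.NormDimOne
import Groth.Agent.Variety.K419.StalkLoc
import Groth.Agent.VarietyB.FinNormField
import Groth.Agent.CalgA.NagataExt
import Groth.Agent.UnramB.IdemGeom

/-!
# The normalization near a point and the integral closure of the local ring
-/

set_option autoImplicit false
universe u

open CategoryTheory CategoryTheory.Limits AlgebraicGeometry TopologicalSpace TensorProduct nonZeroDivisors IsLocalRing

namespace K424.DeltaGeo

variable (X : Scheme.{u}) [IsIntegral X]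
    [QuasiCompact (X.fromSpecStalk (genericPoint X))] [QuasiSeparated (X.fromSpecStalk (genericPoint X))]

/-- Sections of the normalization over an affine open as an integral closure. -/
theorem exists_psi (U : X.Opens) (hU : IsAffineOpen U) (hη : genericPoint X ∈ U) (L : Type u) [Field L]
    [Algebra Γ(X, U) L] [IsFractionRing Γ(X, U) L] :
    ∃ ψ : Γ(Curv2.normalization X, Curv2.normalizationι X ⁻¹ᵁ U) →+* L,
      (∀ r, ψ (((Curv2.normalizationι X).app U).hom r) = algebraMap Γ(X, U) L r) ∧ Function.Injective ψ ∧
      ∀ z : L, IsIntegral Γ(X, U) z ↔ ∃ c, ψ c = z := by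
  let f := X.fromSpecStalk (genericPoint X)
  let B := Γ(X, U)
  let C := Γ(Curv2.normalization X, Curv2.normalizationι X ⁻¹ᵁ U)
  let F := Γ(Spec (X.presheaf.stalk (genericPoint X)), f ⁻¹ᵁ U)
  let algBF : Algebra B F := (f.app U).hom.toAlgebra
  have hfr : IsFractionRing B F := K424.NormDimOne.isFractionRing X U hU hη
  let e : C ≅ CommRingCat.of (integralClosure B F) := f.normalizationObjIso hU
  have he : ((Curv2.normalizationι X).app U) = CommRingCat.ofHom (algebraMap B (integralClosure B F)) ≫ e.inv :=
    f.fromNormalization_app hU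
  let g : F ≃ₐ[B] L := IsLocalization.algEquiv B⁰ F L
  have hbij : Function.Bijective e.hom.hom := ConcreteCategory.bijective_of_isIso e.hom
  refine ⟨(g.toAlgHom.toRingHom.comp (integralClosure B F).val.toRingHom).comp e.hom.hom, ?_, ?_, ?_⟩
  · intro r
    rw [he]
    have : e.hom.hom ((CommRingCat.ofHom (algebraMap B (integralClosure B F)) ≫ e.inv).hom r) =
        algebraMap B (integralClosure B F) r := by
      change (e.inv ≫ e.hom).hom _ = _
      rw [e.inv_hom_id]
      rfl
    change g ((integralClosure B F).val (e.hom.hom _)) = _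
    rw [this]
    exact g.commutes r
  · exact (g.injective.comp Subtype.val_injective).comp hbij.1
  · intro z
    constructor
    · intro hz
      have h1 : IsIntegral B (g.symm z) := hz.map g.symm
      obtain ⟨y, hy⟩ := hbij.2 ⟨g.symm z, h1⟩
      refine ⟨y, ?_⟩
      change g ((integralClosure B F).val (e.hom.hom y)) = z
      rw [hy]
      exact g.apply_symm_apply z
    · rintro ⟨c, rfl⟩
      exact ((e.hom.hom c).2 : IsIntegral B _).map g

/-- Evaluation at a point of an affine open vanishes exactly on the prime ideal of the point. -/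
theorem evaluation_eq_zero_iff {N : Scheme.{u}} {V : N.Opens} (hV : IsAffineOpen V) (x : N) (hx : x ∈ V) (c : Γ(N, V)) :
    (N.evaluation V x hx).hom c = 0 ↔ c ∈ (hV.primeIdealOf ⟨x, hx⟩).asIdeal := by
  let alg : Algebra Γ(N, V) (N.presheaf.stalk x) := TopCat.Presheaf.algebra_section_stalk N.presheaf ⟨x, hx⟩
  have hloc : IsLocalization.AtPrime (N.presheaf.stalk x) (hV.primeIdealOf ⟨x, hx⟩).asIdeal :=
    hV.isLocalization_stalk ⟨x, hx⟩
  have h1 : (N.evaluation V x hx).hom = (N.residue x).hom.comp (algebraMap Γ(N, V) (N.presheaf.stalk x)) := rfl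
  rw [h1, RingHom.comp_apply]
  change (IsLocalRing.residue _) _ = 0 ↔ _
  rw [IsLocalRing.residue_eq_zero_iff]
  exact (IsLocalization.AtPrime.to_map_mem_maximal_iff (N.presheaf.stalk x)
      (hV.primeIdealOf ⟨x, hx⟩).asIdeal c)

theorem exists_point (x : X)
    (n : Ideal (integralClosure (X.presheaf.stalk x) (FractionRing (X.presheaf.stalk x)))) [n.IsMaximal] :
    ∃ (x' : Curv2.normalization X) (hx' : Curv2.normalizationι X x' = x)
      (φ : integralClosure (X.presheaf.stalk x) (FractionRing (X.presheaf.stalk x)) →+*
        (Curv2.normalization X).residueField x'),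
      (∀ d ∈ n, φ d = 0) ∧ ∀ a : X.presheaf.stalk x, φ (algebraMap _ _ a) =
        ((Curv2.normalization X).residue x').hom (((Curv2.normalizationι X).stalkMap x').hom
          ((X.presheaf.stalkSpecializes (specializes_of_eq hx')).hom a)) := by
  obtain ⟨U, hU, hxU, hη⟩ := K424.NormDimOne.exists_affine X x
  have hI := K424.NormDimOne.isIntegralHom_normalizationι X
  have hV : IsAffineOpen (Curv2.normalizationι X ⁻¹ᵁ U) := hU.preimage _
  let N := Curv2.normalization X
  let ν := Curv2.normalizationι X
  let A := X.presheaf.stalk x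
  let L := FractionRing A
  let R := Γ(X, U)
  let C := Γ(N, ν ⁻¹ᵁ U)
  let D := integralClosure A L
  let algRA : Algebra R A := TopCat.Presheaf.algebra_section_stalk X.presheaf ⟨x, hxU⟩
  let p := (hU.primeIdealOf ⟨x, hxU⟩).asIdeal
  have hloc : IsLocalization.AtPrime A p := hU.isLocalization_stalk ⟨x, hxU⟩
  have hfrR : IsFractionRing R L := by
    have hne : Nonempty U := ⟨⟨x, hxU⟩⟩
    have h1 : IsFractionRing R X.functionField := functionField_isFractionRing_of_isAffineOpen X U hU
    have h2 : IsScalarTower R A X.functionField := functionField_isScalarTower X U ⟨x, hxU⟩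
    let e : X.functionField ≃ₐ[A] L := IsLocalization.algEquiv A⁰ X.functionField L
    exact IsLocalization.isLocalization_of_algEquiv R⁰ (e.restrictScalars R)
  obtain ⟨ψ, hψ1, hψ2, hψ3⟩ := exists_psi X U hU hη L
  let ψD : C →+* D := ψ.codRestrict D (fun c => ((hψ3 (ψ c)).mpr ⟨c, rfl⟩).tower_top)
  have hψD : ∀ r : R, ψD ((ν.app U).hom r) = algebraMap A D (algebraMap R A r) := by
    intro r
    apply Subtype.ext
    change ψ ((ν.app U).hom r) = algebraMap A L (algebraMap R A r)
    rw [hψ1, ← IsScalarTower.algebraMap_apply]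
  let algCD : Algebra C D := ψD.toAlgebra
  let M : Submonoid C := p.primeCompl.map (ν.app U).hom
  have hM : IsLocalization M D := by
    refine ⟨?_, ?_, ?_⟩
    · rintro ⟨_, r, hr, rfl⟩
      change IsUnit (ψD ((ν.app U).hom r))
      rw [hψD]
      exact (IsLocalization.map_units A ⟨r, hr⟩).map _
    · intro d
      obtain ⟨m, hm⟩ := IsIntegral.exists_multiple_integral_of_isLocalization p.primeCompl d.1 d.2
      obtain ⟨c, hc⟩ := (hψ3 _).mp hm
      refine ⟨⟨c, ⟨(ν.app U).hom m, m, m.2, rfl⟩⟩, ?_⟩
      apply Subtype.ext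
      change d.1 * ψ ((ν.app U).hom m) = ψ c
      rw [hc, hψ1, mul_comm, ← Algebra.smul_def]
      rfl
    · intro a b hab
      exact ⟨1, by rw [hψ2 (congrArg Subtype.val hab : ψ a = ψ b)]⟩
  let q : Ideal C := n.comap ψD
  have hqp : q.IsPrime := Ideal.comap_isPrime _ _
  have hqR : q.comap (ν.app U).hom = p := by
    have h1 : q.comap (ν.app U).hom = (n.comap (algebraMap A D)).comap (algebraMap R A) := by
      change (n.comap ψD).comap (ν.app U).hom = _
      rw [Ideal.comap_comap, Ideal.comap_comap]
      congr 1
      ext r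
      exact congrArg Subtype.val (hψD r)
    have h2 : n.comap (algebraMap A D) = maximalIdeal A :=
      IsLocalRing.eq_maximalIdeal (Ideal.isMaximal_comap_of_isIntegral_of_isMaximal n)
    rw [h1, h2]
    exact IsLocalization.AtPrime.under_maximalIdeal A p
  let x' : N := hV.fromSpec ⟨q, hqp⟩
  have hx'V : x' ∈ ν ⁻¹ᵁ U := by
    have : x' ∈ Set.range hV.fromSpec := ⟨_, rfl⟩
    rwa [hV.range_fromSpec] at this
  have hprime : hV.primeIdealOf ⟨x', hx'V⟩ = ⟨q, hqp⟩ := by
    apply hV.fromSpec.isOpenEmbedding.injective
    rw [hV.fromSpec_primeIdealOf]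
  have hx' : ν x' = x := by
    have h1 := K424.NormDimOne.comap_primeIdealOf X U hU hV x' hx'V
    rw [hprime] at h1
    have h2 : hU.primeIdealOf ⟨ν x', hx'V⟩ = hU.primeIdealOf ⟨x, hxU⟩ := by
      ext1
      rw [← h1]
      exact hqR
    have h3 := congrArg hU.fromSpec h2
    rw [hU.fromSpec_primeIdealOf, hU.fromSpec_primeIdealOf] at h3
    exact h3
  let ev : C →+* N.residueField x' := (N.evaluation (ν ⁻¹ᵁ U) x' hx'V).hom
  have hev : ∀ c, ev c = 0 ↔ c ∈ q := fun c => by
    have := evaluation_eq_zero_iff hV x' hx'V c
    rw [hprime] at this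
    exact this
  have hu : ∀ s : M, IsUnit (ev s) := by
    rintro ⟨_, r, hr, rfl⟩
    refine IsUnit.mk0 _ fun h0 => hr ?_
    have h1 := (hev _).mp h0
    rw [← hqR]
    exact h1
  let φ : D →+* N.residueField x' := IsLocalization.lift hu
  have hφ : ∀ c, φ (ψD c) = ev c := fun c => IsLocalization.lift_eq hu c
  refine ⟨x', hx', φ, ?_, ?_⟩
  · intro d hd
    obtain ⟨⟨c, s⟩, hcs⟩ := IsLocalization.surj M d
    have h1 : c ∈ q := by
      change ψD c ∈ n
      have h2 : ψD c = d * ψD s := hcs.symm
      rw [h2]
      exact Ideal.mul_mem_right _ _ hd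
    have h3 : φ d * ev s = 0 := by
      have h4 : φ (d * ψD s) = φ (ψD c) := congrArg φ hcs
      rw [map_mul, hφ, hφ, (hev c).mpr h1] at h4
      exact h4
    exact ((hu s).mul_left_eq_zero).mp h3
  · have h1 : φ.comp (algebraMap A D) = ((N.residue x').hom.comp ((ν.stalkMap x').hom.comp
        (X.presheaf.stalkSpecializes (specializes_of_eq hx')).hom)) := by
      refine IsLocalization.ringHom_ext p.primeCompl ?_
      ext r
      have h2 : φ (algebraMap A D (algebraMap R A r)) = ev ((ν.app U).hom r) := by
        rw [← hψD, hφ]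
      refine h2.trans ?_
      change (N.evaluation (ν ⁻¹ᵁ U) x' hx'V).hom ((ν.app U).hom r) =
        (N.residue x').hom ((ν.stalkMap x').hom ((X.presheaf.stalkSpecializes (specializes_of_eq hx')).hom
          ((X.presheaf.germ U x hxU).hom r)))
      have h3 : (X.presheaf.stalkSpecializes (specializes_of_eq hx')).hom ((X.presheaf.germ U x hxU).hom r) =
          (X.presheaf.germ U (ν x') hx'V).hom r := by
        rw [← CommRingCat.comp_apply, X.presheaf.germ_stalkSpecializes]
      have h4 : (ν.stalkMap x').hom ((X.presheaf.germ U (ν x') hx'V).hom r) =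
          (N.presheaf.germ (ν ⁻¹ᵁ U) x' hx'V).hom ((ν.app U).hom r) :=
        congrArg (fun g => g.hom r) (Scheme.Hom.germ_stalkMap ν U x' hx'V)
      rw [h3, h4]
      rfl
    intro a
    exact congrArg (fun g => g a) h1

section Field

variable (k : Type u) [Field k] [X.Over (Spec (CommRingCat.of k))]

attribute [local instance] Curv2.stalkAlgebra

/-- The residue fields of the integral closure of `O_{X,x}` stay reduced after base change. -/
theorem isReduced_tensor_quot (x : X)
    (hsep : letI : (Curv2.normalization X).Over (Spec (CommRingCat.of k)) :=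
        ⟨Curv2.normalizationι X ≫ (X ↘ (Spec (CommRingCat.of k)))⟩
      ∀ x' : ↥(Curv2.normalization X), (Curv2.normalizationι X).base x' = x →
        GeometricallyReduced (Spec.map (CommRingCat.ofHom (Curv2.resMap k (Curv2.normalization X) x'))))
    (n : Ideal (integralClosure (X.presheaf.stalk x) (FractionRing (X.presheaf.stalk x)))) [n.IsMaximal]
    (K : Type u) [Field K] [Algebra k K] :
    _root_.IsReduced ((integralClosure (X.presheaf.stalk x) (FractionRing (X.presheaf.stalk x)) ⧸ n) ⊗[k] K) := by
  let overN : (Curv2.normalization X).Over (Spec (CommRingCat.of k)) :=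
        ⟨Curv2.normalizationι X ≫ (X ↘ (Spec (CommRingCat.of k)))⟩
  obtain ⟨x', hx', φ, h1, h2⟩ := exists_point X x n
  subst hx'
  have hg := hsep x' rfl
  let D := integralClosure (X.presheaf.stalk (Curv2.normalizationι X x'))
    (FractionRing (X.presheaf.stalk (Curv2.normalizationι X x')))
  let algκ : Algebra k ((Curv2.normalization X).residueField x') :=
    (Curv2.resMap k (Curv2.normalization X) x').toAlgebra
  have hg' : GeometricallyReduced (Spec.map (CommRingCat.ofHom
      (algebraMap k ((Curv2.normalization X).residueField x')))) := hg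
  have hred := Groth.Agent.UnramB.IdemGeom.isReduced_tensor k ((Curv2.normalization X).residueField x') K
  have hred2 : _root_.IsReduced ((Curv2.normalization X).residueField x' ⊗[k] K) :=
    isReduced_of_injective (Algebra.TensorProduct.comm k ((Curv2.normalization X).residueField x') K).toRingHom
      (Algebra.TensorProduct.comm k ((Curv2.normalization X).residueField x') K).injective
  let j0 : (D ⧸ n) →+* (Curv2.normalization X).residueField x' := Ideal.Quotient.lift n φ h1
  have hk : ∀ c : k, j0 (algebraMap k (D ⧸ n) c) = algebraMap k ((Curv2.normalization X).residueField x') c := by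
    intro c
    have h3 : algebraMap k (D ⧸ n) c = Ideal.Quotient.mk n (algebraMap (X.presheaf.stalk (Curv2.normalizationι X x')) D
        (algebraMap k (X.presheaf.stalk (Curv2.normalizationι X x')) c)) := rfl
    rw [h3]
    refine (Ideal.Quotient.lift_mk n φ h1).trans ?_
    refine (h2 _).trans ?_
    have h4 := K419.StalkK.stalkMap_comp k (Curv2.normalizationι X) rfl x'
    have h5 : (X.presheaf.stalkSpecializes (specializes_of_eq (rfl : Curv2.normalizationι X x' =
      Curv2.normalizationι X x'))) = 𝟙 _ := X.presheaf.stalkSpecializes_refl _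
    rw [h5]
    change ((Curv2.normalization X).residue x').hom (((Curv2.normalizationι X).stalkMap x').hom
      (Curv2.stalkMap k X (Curv2.normalizationι X x') c)) = _
    have h6 := congrArg (fun g => g c) h4
    have h7 : ((Curv2.normalizationι X).stalkMap x').hom
      (Curv2.stalkMap k X (Curv2.normalizationι X x') c) = Curv2.stalkMap k (Curv2.normalization X) x' c := h6
    rw [h7]
    rfl
  let j : (D ⧸ n) →ₐ[k] (Curv2.normalization X).residueField x' := { toRingHom := j0, commutes' := hk }
  have hj : Function.Injective j := by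
    let fldκ : Field (D ⧸ n) := Ideal.Quotient.field n
    exact j0.injective
  have hinj : Function.Injective (Algebra.TensorProduct.map j (AlgHom.id k K)) :=
    Module.Flat.rTensor_preserves_injective_linearMap (M := K) j.toLinearMap hj
  exact isReduced_of_injective _ hinj

omit [QuasiCompact (X.fromSpecStalk (genericPoint X))] [QuasiSeparated (X.fromSpecStalk (genericPoint X))] in
theorem finite_integralClosure [LocallyOfFiniteType (X ↘ (Spec (CommRingCat.of k)))] (x : X) :
    Module.Finite (X.presheaf.stalk x) (integralClosure (X.presheaf.stalk x) (FractionRing (X.presheaf.stalk x))) := by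
  obtain ⟨U, hU, hxU, hη⟩ := K424.NormDimOne.exists_affine X x
  let A := X.presheaf.stalk x
  let L := FractionRing A
  let R := Γ(X, U)
  have hne : Nonempty U := ⟨⟨x, hxU⟩⟩
  let algRA : Algebra R A := TopCat.Presheaf.algebra_section_stalk X.presheaf ⟨x, hxU⟩
  let p := (hU.primeIdealOf ⟨x, hxU⟩).asIdeal
  have hloc : IsLocalization.AtPrime A p := hU.isLocalization_stalk ⟨x, hxU⟩
  have hfrR : IsFractionRing R L := by
    have h1 : IsFractionRing R X.functionField := functionField_isFractionRing_of_isAffineOpen X U hU
    have h2 : IsScalarTower R A X.functionField := functionField_isScalarTower X U ⟨x, hxU⟩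
    let e : X.functionField ≃ₐ[A] L := IsLocalization.algEquiv A⁰ X.functionField L
    exact IsLocalization.isLocalization_of_algEquiv R⁰ (e.restrictScalars R)
  have hft : ((X ↘ (Spec (CommRingCat.of k))).appLE ⊤ U le_top).hom.FiniteType :=
    (X ↘ (Spec (CommRingCat.of k))).finiteType_appLE (isAffineOpen_top _) hU le_top
  have hft2 : (((X ↘ (Spec (CommRingCat.of k))).appLE ⊤ U le_top).hom.comp
      (Scheme.ΓSpecIso (CommRingCat.of k)).inv.hom).FiniteType :=
    hft.comp (RingHom.FiniteType.of_surjective _
      (Scheme.ΓSpecIso (CommRingCat.of k)).symm.commRingCatIsoToRingEquiv.surjective)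
  let algkR : Algebra k R := (((X ↘ (Spec (CommRingCat.of k))).appLE ⊤ U le_top).hom.comp
      (Scheme.ΓSpecIso (CommRingCat.of k)).inv.hom).toAlgebra
  have hft3 : Algebra.FiniteType k R := hft2
  have hfin : Module.Finite R (integralClosure R L) :=
    Groth.Agent.VarietyB.FinNormField.finite_integralClosure_of_finiteType k R L L
  exact Groth.Agent.CalgA.NagataExt.finite_ic_of_isLocalization p.primeCompl hfin

end Field

end K424.DeltaGeo
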