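import Groth.Agent.Variety.K424.CoefPoly
import Groth.Agent.S1528
import Groth.Agent.CycB.CohStalk

/-!
# Intersection numbers as alternating sums of Euler characteristics

For `χ` additive on coherent modules and invertible `L₁, …, L_d`,
`icoef χ L F = Σ_S (-1)^{d-|S|} χ(F ⊗ L^{1_S})` is additive, vanishes when `dim Supp F < d`, equals the
coefficient of `n₁ ⋯ n_d` of the Snapper polynomial when `dim Supp F ≤ d`, and is
`Σ_ξ length(F_ξ) icoef(G_ξ)` over the points `ξ` with `dim closure ξ = d`.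
-/

set_option autoImplicit false
universe u
open CategoryTheory CategoryTheory.Limits AlgebraicGeometry Opposite TopologicalSpace

namespace K424.IntCoef

open Groth.Agent.Fga.ChiBasic Groth.Agent.Fga.SnapperTwist K424.CoefPoly

variable {X : Scheme.{u}}

/-- `Σ_S (-1)^{d-|S|} χ(F ⊗ L^{1_S})`. -/
noncomputable def icoef (χ : X.Modules → ℤ) {d : ℕ} (L : Fin d → X.Modules) (F : X.Modules) : ℤ :=
  ∑ S : Finset (Fin d), (-1 : ℤ) ^ (d - S.card) * χ (Curv2.tensorPows F d L (ind S))

theorem isCoh_tensorPows {d : ℕ} (L : Fin d → X.Modules) (hL : ∀ i, PicF.IsInvertible (L i)) (n : Fin d → ℕ)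
    {F : X.Modules} (hF : Coh.IsCoh F) : Coh.IsCoh (Curv2.tensorPows F d L n) := by
  obtain ⟨e⟩ := tensorPows_iso F d L n
  exact Groth.Agent.Sga67.CohBasic.isCoh_of_iso e.symm (isCoh_tensor' (isInvertible_multiTwist L hL n) hF)

/-- `F ↦ χ(F ⊗ L^n)` is additive. -/
theorem isAdd_tensorPows {χ : X.Modules → ℤ} (hχ : IsAdd χ) {d : ℕ} (L : Fin d → X.Modules)
    (hL : ∀ i, PicF.IsInvertible (L i)) (n : Fin d → ℕ) :
    IsAdd (fun F => χ (Curv2.tensorPows F d L n)) := by
  have h : ∀ F, Coh.IsCoh F → χ (Curv2.tensorPows F d L n) = χ (CohB1.tensorMod (FGA.multiTwist L n) F) := by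
    intro F hF
    obtain ⟨e⟩ := tensorPows_iso F d L n
    exact chi_iso hχ e (isCoh_tensorPows L hL n hF)
  intro S hS h1 h2 h3
  simp only [h _ h1, h _ h2, h _ h3]
  exact isAdd_twist hχ (isInvertible_multiTwist L hL n) S hS h1 h2 h3

theorem isAdd_icoef {χ : X.Modules → ℤ} (hχ : IsAdd χ) {d : ℕ} (L : Fin d → X.Modules)
    (hL : ∀ i, PicF.IsInvertible (L i)) : IsAdd (icoef χ L) := by
  intro S hS h1 h2 h3
  unfold icoef
  rw [← Finset.sum_add_distrib]
  refine Finset.sum_congr rfl fun T _ => ?_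
  rw [← mul_add]
  congr 1
  exact isAdd_tensorPows hχ L hL (ind T) S hS h1 h2 h3

/-- The coefficient of `n₁ ⋯ n_d`. -/
theorem coeff_eq_icoef [IsNoetherian X] {χ : X.Modules → ℤ} (hχ : IsAdd χ) {d : ℕ} (L : Fin d → X.Modules)
    (hL : ∀ i, PicF.IsInvertible (L i)) (F : X.Modules) (hF : Coh.IsCoh F)
    (hd : topologicalKrullDim (CohB1.support F) ≤ d) (P : MvPolynomial (Fin d) ℚ)
    (hP : ∀ n : Fin d → ℕ, (χ (Curv2.tensorPows F d L n) : ℚ) = MvPolynomial.eval (fun i => (n i : ℚ)) P) :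
    MvPolynomial.coeff (ones d) P = (icoef χ L F : ℚ) := by
  obtain ⟨P', hdeg, hP'⟩ := snapper' hχ L hL F hF d hd
  have : P = P' := eq_of_nat P P' fun n => by rw [← hP, ← hP']
  subst this
  rw [← alt_sum_eq_coeff P hdeg]
  unfold icoef
  push_cast
  refine Finset.sum_congr rfl fun S _ => ?_
  rw [← hP]

theorem exists_poly [IsNoetherian X] {χ : X.Modules → ℤ} (hχ : IsAdd χ) {d : ℕ} (L : Fin d → X.Modules)
    (hL : ∀ i, PicF.IsInvertible (L i)) (F : X.Modules) (hF : Coh.IsCoh F)
    (e : ℕ) (hd : topologicalKrullDim (CohB1.support F) ≤ e) :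
    ∃ P : MvPolynomial (Fin d) ℚ, P.totalDegree ≤ e ∧
      ∀ n : Fin d → ℕ, (χ (Curv2.tensorPows F d L n) : ℚ) = MvPolynomial.eval (fun i => (n i : ℚ)) P :=
  snapper' hχ L hL F hF e hd

/-- Vanishing when the support has dimension `< d`. -/
theorem icoef_eq_zero [IsNoetherian X] {χ : X.Modules → ℤ} (hχ : IsAdd χ) {d : ℕ} (L : Fin d → X.Modules)
    (hL : ∀ i, PicF.IsInvertible (L i)) (F : X.Modules) (hF : Coh.IsCoh F)
    (hd : topologicalKrullDim (CohB1.support F) < d) : icoef χ L F = 0 := by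
  rcases Nat.eq_zero_or_pos d with rfl | hpos
  · have hemp : CohB1.support F = ∅ := by
      by_contra hne
      have : Nonempty (CohB1.support F) := (Set.nonempty_iff_ne_empty.mpr hne).to_subtype
      have h0 : (0 : WithBot ℕ∞) ≤ topologicalKrullDim (CohB1.support F) := by
        have : Nonempty (IrreducibleCloseds (CohB1.support F)) :=
          ⟨⟨closure {Classical.arbitrary _}, isIrreducible_singleton.closure, isClosed_closure⟩⟩
        exact Order.krullDim_nonneg
      exact absurd hd (not_lt.mpr (by exact_mod_cast h0))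
    have hz := Groth.Agent.CohqB.DevSupport.isZero_of_support_eq_empty hemp
    exact chi_isZero (isAdd_icoef hχ L hL) hz
  · obtain ⟨e, rfl⟩ : ∃ e, d = e + 1 := ⟨d - 1, by omega⟩
    have hd' : topologicalKrullDim (CohB1.support F) ≤ (e : ℕ) := by
      rw [Nat.cast_add, Nat.cast_one] at hd
      exact ENat.WithBot.lt_add_one_iff.mp hd
    obtain ⟨P, hdeg, hP⟩ := exists_poly hχ L hL F hF e hd'
    have h1 := coeff_eq_icoef hχ L hL F hF hd.le P hP
    have h2 : MvPolynomial.coeff (ones (e + 1)) P = 0 := by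
      by_contra hne
      have := (MvPolynomial.le_totalDegree (MvPolynomial.mem_support_iff.mpr hne)).trans hdeg
      rw [Finsupp.sum_fintype _ _ (fun _ => rfl)] at this
      simp at this
    rw [h2] at h1
    exact_mod_cast h1.symm

end K424.IntCoef
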