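import Groth.Agent.Variety.K424.DeltaGeo
import Groth.Agent.Divis.StalkMod
import Groth.Agent.Fdesc.StructMod
import Groth.Agent.CohqA.AffPush
import Groth.Agent.CycB.StalkExact

/-!
# Stalks of the direct image of the structure sheaf of the normalization
-/

set_option autoImplicit false
universe u

open CategoryTheory CategoryTheory.Limits AlgebraicGeometry TopologicalSpace TensorProduct nonZeroDivisors IsLocalRing
open Opposite

namespace K424.NormStalk

open Groth.Agent.CycB.StalkExact Groth.Agent.Fdesc

variable (X : Scheme.{u}) [IsIntegral X]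
    [QuasiCompact (X.fromSpecStalk (genericPoint X))] [QuasiSeparated (X.fromSpecStalk (genericPoint X))]

/-- Sections of the normalization over an affine neighbourhood map to the integral closure of the local ring. -/
theorem exists_psiD (x : X) (U : X.Opens) (hU : IsAffineOpen U) (hxU : x ∈ U) (hη : genericPoint X ∈ U) :
    ∃ ψ : Γ(Curv2.normalization X, Curv2.normalizationι X ⁻¹ᵁ U) →+*
        integralClosure (X.presheaf.stalk x) (FractionRing (X.presheaf.stalk x)),
      (∀ r, ψ (((Curv2.normalizationι X).app U).hom r) = algebraMap _ _ (X.presheaf.germ U x hxU r)) ∧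
      Function.Injective ψ ∧
      ∀ d, ∃ r : Γ(X, U), r ∉ (hU.primeIdealOf ⟨x, hxU⟩).asIdeal ∧ ∃ c, ψ c =
        algebraMap _ _ (X.presheaf.germ U x hxU r) * d := by
  let N := Curv2.normalization X
  let ν := Curv2.normalizationι X
  let A := X.presheaf.stalk x
  let L := FractionRing A
  let R := Γ(X, U)
  let C := Γ(N, ν ⁻¹ᵁ U)
  let D := integralClosure A L
  let algRA : Algebra R A := TopCat.Presheaf.algebra_section_stalk X.presheaf ⟨x, hxU⟩
  let p := (hU.primeIdealOf ⟨x, hxU⟩).asIdeal
  have hloc : IsLocalization.AtPrime A p := hU.isLocalization_stalk ⟨x, hxU⟩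
  have hfrR : IsFractionRing R L := by
    have hne : Nonempty U := ⟨⟨x, hxU⟩⟩
    have h1 : IsFractionRing R X.functionField := functionField_isFractionRing_of_isAffineOpen X U hU
    have h2 : IsScalarTower R A X.functionField := functionField_isScalarTower X U ⟨x, hxU⟩
    let e : X.functionField ≃ₐ[A] L := IsLocalization.algEquiv A⁰ X.functionField L
    exact IsLocalization.isLocalization_of_algEquiv R⁰ (e.restrictScalars R)
  obtain ⟨ψ, hψ1, hψ2, hψ3⟩ := K424.DeltaGeo.exists_psi X U hU hη L
  let ψD : C →+* D := ψ.codRestrict D (fun c => ((hψ3 (ψ c)).mpr ⟨c, rfl⟩).tower_top)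
  refine ⟨ψD, fun r => ?_, fun a b hab => hψ2 (congrArg Subtype.val hab), fun d => ?_⟩
  · apply Subtype.ext
    change ψ ((ν.app U).hom r) = algebraMap A L (algebraMap R A r)
    rw [hψ1, ← IsScalarTower.algebraMap_apply]
  · obtain ⟨m, hm⟩ := IsIntegral.exists_multiple_integral_of_isLocalization p.primeCompl d.1 d.2
    obtain ⟨c, hc⟩ := (hψ3 _).mp hm
    refine ⟨m, m.2, c, ?_⟩
    apply Subtype.ext
    change ψ c = algebraMap A L (algebraMap R A m) * d.1
    rw [hc, ← IsScalarTower.algebraMap_apply, ← Algebra.smul_def]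
    rfl

/-- Uniqueness of localized modules, semilinear packaging. -/
theorem exists_linearEquiv {R A : Type u} [CommRing R] [CommRing A] [Algebra R A] (p : Ideal R) [p.IsPrime]
    [IsLocalization.AtPrime A p] {M0 Mx D : Type u} [AddCommGroup M0] [AddCommGroup Mx] [AddCommGroup D]
    [Module R M0] [Module R Mx] [Module A Mx] [IsScalarTower R A Mx] (l : M0 →ₗ[R] Mx)
    [IsLocalizedModule p.primeCompl l] [Module A D] (m : M0 → D) (hadd : ∀ a b, m (a + b) = m a + m b)
    (hm : ∀ r c, m (r • c) = algebraMap R A r • m c)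
    (hinj : Function.Injective m) (hsurj : ∀ d, ∃ r, r ∉ p ∧ ∃ c, m c = algebraMap R A r • d) :
    ∃ e : Mx ≃ₗ[A] D, ∀ c, e (l c) = m c := by
  let modRD : Module R D := Module.compHom D (algebraMap R A)
  have htow2 : IsScalarTower R A D := ⟨fun r a d => by
    rw [Algebra.smul_def, mul_smul]
    rfl⟩
  let m' : M0 →ₗ[R] D := { toFun := m, map_add' := hadd, map_smul' := hm }
  have hm' : IsLocalizedModule p.primeCompl m' := by
    refine ⟨?_, ?_, ?_⟩
    · intro s
      have h1 : IsUnit (algebraMap R A s) := IsLocalization.map_units A s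
      rw [Module.End.isUnit_iff]
      constructor
      · intro a b hab
        have h2 : algebraMap R A s • a = algebraMap R A s • b := hab
        exact h1.smul_left_cancel.mp h2
      · intro d
        obtain ⟨u, hu⟩ := h1
        refine ⟨(u⁻¹ : Aˣ) • d, ?_⟩
        change algebraMap R A s • ((u⁻¹ : Aˣ) • d) = d
        rw [← hu]
        exact smul_inv_smul u d
    · intro d
      obtain ⟨r, hr, c, hc⟩ := hsurj d
      exact ⟨(c, ⟨r, hr⟩), hc.symm⟩
    · intro a b hab
      exact ⟨1, by rw [hinj hab]⟩
  let e0 : Mx ≃ₗ[R] D := IsLocalizedModule.linearEquiv p.primeCompl l m'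
  refine ⟨e0.extendScalarsOfIsLocalization p.primeCompl A, fun c => ?_⟩
  exact IsLocalizedModule.linearEquiv_apply p.primeCompl l m' c

/-- `ν_* O` for the normalization `ν`. -/
noncomputable abbrev pushO : X.Modules :=
  (Scheme.Modules.pushforward (Curv2.normalizationι X)).obj (Coh.structureModule (Curv2.normalization X))

theorem isQCoh_pushO : Coh.IsQCoh (pushO X) := by
  have hI := K424.NormDimOne.isIntegralHom_normalizationι X
  have h := Groth.Agent.CohqA.AffPush.isQCoh_push (f := Curv2.normalizationι X)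
    (M := Coh.structureModule (Curv2.normalization X)) (StructMod.isQCoh_structureModule _)
  exact h

theorem exists_equiv (x : X) :
    ∃ e : (pushO X).presheaf.stalk x ≃ₗ[X.presheaf.stalk x]
        integralClosure (X.presheaf.stalk x) (FractionRing (X.presheaf.stalk x)),
      ∀ a : X.presheaf.stalk x, e (stalkLin (ClSub.unitToPush (Curv2.normalizationι X)) x (StructMod.stalkEquiv x a)) =
        algebraMap _ _ a := by
  obtain ⟨U, hU, hxU, hη⟩ := K424.NormDimOne.exists_affine X x
  let N := Curv2.normalization X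
  let ν := Curv2.normalizationι X
  let A := X.presheaf.stalk x
  let L := FractionRing A
  let R := Γ(X, U)
  let C := Γ(N, ν ⁻¹ᵁ U)
  let D := integralClosure A L
  let M := pushO X
  obtain ⟨ψ, hψ1, hψ2, hψ3⟩ := exists_psiD X x U hU hxU hη
  refine Groth.Agent.Divis.StalkMod.stalk_elim M (isQCoh_pushO X) hU x hxU ?_
  intro algRA modRM htow hloc l hl hRA hlm
  obtain ⟨e, he⟩ := exists_linearEquiv (R := Γ(X, U)) (A := X.presheaf.stalk x)
    (hU.primeIdealOf ⟨x, hxU⟩).asIdeal (M0 := Γ(M, U)) (Mx := M.presheaf.stalk x) (D := D) l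
    (fun c => ψ c) (fun a b => map_add ψ (a : C) b)
    (fun r c => by
      have h2 : ∀ c' : C, ψ ((ν.app U).hom r * c') = algebraMap A D (X.presheaf.germ U x hxU r) * ψ c' := by
        intro c'
        rw [map_mul, hψ1]
      rw [hRA, Algebra.smul_def]
      exact h2 c)
    hψ2 (fun d => by
      obtain ⟨r, hr, c, hc⟩ := hψ3 d
      exact ⟨r, hr, c, by rw [hRA, Algebra.smul_def]; exact hc⟩)
  refine ⟨e, fun a => ?_⟩
  have h1 : StructMod.stalkEquiv x a = a • StructMod.stalkEquiv x (X.presheaf.germ U x hxU 1) := by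
    rw [map_one, ← map_smul, smul_eq_mul, mul_one]
  rw [h1, map_smul, map_smul, StructMod.stalkEquiv_germ, stalkLin_germ]
  have h2 : e ((M.presheaf.germ U x hxU) (((ClSub.unitToPush (Curv2.normalizationι X)).app U)
      ((StructMod.sectionsEquiv U).symm 1))) = ψ 1 := by
    rw [← hl, he]
    congr 1
    exact map_one (ν.app U).hom
  rw [h2, map_one, Algebra.smul_def, mul_one]

end K424.NormStalk
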