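import Groth.Agent.VarietyB.SemilocalDedekind
import Mathlib.RingTheory.Localization.Integral

/-!
# Krull-Akizuki: primes of the normalization of a one-dimensional Noetherian domain
-/

universe u v

namespace K424.KADimOne

open Module IsDedekindDomain

variable (B F C : Type*) [CommRing B] [IsDomain B] [IsNoetherianRing B] [Ring.KrullDimLE 1 B]
    [Field F] [Algebra B F] [IsFractionRing B F]
    [CommRing C] [Algebra C F] [IsIntegralClosure C B F] [Algebra B C] [IsScalarTower B C F]

include B F in
theorem isDedekindDomain : IsDedekindDomain C :=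
  Groth.Agent.VarietyB.SemilocalDedekind.isDedekindDomain_of_isIntegralClosure B F F C

include F in
omit [IsNoetherianRing B] [Ring.KrullDimLE 1 B] [IsDomain B] [IsIntegralClosure C B F] in
theorem algebraMap_injective : Function.Injective (algebraMap B C) := by
  have h : Function.Injective (algebraMap B F) := IsFractionRing.injective B F
  rw [IsScalarTower.algebraMap_eq B C F] at h
  exact Function.Injective.of_comp h

include F in
/-- The quotient of the normalization by a nonzero prime is finite over the base. -/
theorem finite_quotient (q : Ideal C) (hq : q ≠ ⊥) : Module.Finite B (C ⧸ q) := by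
  have hinj : Function.Injective (algebraMap C F) := IsIntegralClosure.algebraMap_injective C B F
  have : IsDomain C := hinj.isDomain
  have hint : Algebra.IsIntegral B C := IsIntegralClosure.isIntegral_algebra B F
  obtain ⟨b, hb, hb0⟩ := Submodule.exists_mem_ne_zero_of_ne_bot hq
  have hb1 : IsAlgebraic B b := (hint.isIntegral b).isAlgebraic
  obtain ⟨a, ha, c, hc⟩ := hb1.exists_nonzero_dvd (mem_nonZeroDivisors_of_ne_zero hb0)
  have haq : algebraMap B C a ∈ q := hc ▸ Ideal.mul_mem_right _ _ hb
  let f : C →ₗ[B] (Fin 1 → F) := LinearMap.pi (fun _ => (IsScalarTower.toAlgHom B C F).toLinearMap)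
  have hf : Function.Injective f := fun x y h => hinj (congrFun h 0)
  have h1 := Groth.Agent.VarietyB.KrullAkizuki.isNoetherian_quotient_map a ha 1 f hf
  have hle : Ideal.span {algebraMap B C a} ≤ q := (Ideal.span_singleton_le_iff_mem q).2 haq
  have : Module.Finite B (C ⧸ Ideal.span {algebraMap B C a}) := inferInstance
  exact Module.Finite.of_surjective (Ideal.Quotient.factorₐ B hle).toLinearMap
    (Ideal.Quotient.factor_surjective hle)

include F in
/-- There are finitely many primes of the normalization over a given one. -/
theorem finite_primesOver (p : Ideal B) :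
    {q : PrimeSpectrum C | q.asIdeal.comap (algebraMap B C) = p}.Finite := by
  have hD : IsDedekindDomain C := isDedekindDomain B F C
  have hint : Algebra.IsIntegral B C := IsIntegralClosure.isIntegral_algebra B F
  have hBC := algebraMap_injective B F C
  by_cases hp : p = ⊥
  · refine Set.Finite.subset (Set.finite_singleton (⊥ : PrimeSpectrum C)) ?_
    intro q hq
    rw [Set.mem_ofPred_eq, hp] at hq
    rw [Set.mem_singleton_iff]
    apply PrimeSpectrum.ext
    exact Ideal.eq_bot_of_comap_eq_bot hq
  · obtain ⟨a, ha, ha0⟩ := Submodule.exists_mem_ne_zero_of_ne_bot hp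
    have ha' : Ideal.span {algebraMap B C a} ≠ 0 := by
      rw [ne_eq, Ideal.zero_eq_bot, Ideal.span_singleton_eq_bot, map_eq_zero_iff _ hBC]
      exact ha0
    have h1 : {v : HeightOneSpectrum C | v.asIdeal ∣ Ideal.span {algebraMap B C a}}.Finite :=
      Ideal.finite_factors ha'
    refine Set.Finite.subset (h1.image (fun v => (⟨v.asIdeal, v.isPrime⟩ : PrimeSpectrum C))) ?_
    intro q hq
    rw [Set.mem_ofPred_eq] at hq
    have haq : algebraMap B C a ∈ q.asIdeal := by
      have : a ∈ q.asIdeal.comap (algebraMap B C) := by rw [hq]; exact ha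
      exact this
    have hq0 : q.asIdeal ≠ ⊥ := by
      intro h
      rw [h, Ideal.mem_bot, map_eq_zero_iff _ hBC] at haq
      exact ha0 haq
    exact ⟨⟨q.asIdeal, q.isPrime, hq0⟩, (Ideal.dvd_span_singleton).2 haq, rfl⟩

end K424.KADimOne
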