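import Groth.Agent.ArSurf.K480.GlobHor
import Groth.Agent.S0051
import Groth.Agent.S2325
import Groth.Agent.PerfA.CohSerre

/-!
# `O(D)` ample on `D` implies `O(mD)` globally generated for `m ≫ 0` (helper424)

`X` proper over a Noetherian ring, `D` an effective Cartier divisor, `O(D)|_D` ample.
-/

set_option autoImplicit false
set_option backward.isDefEq.respectTransparency false
universe u

open CategoryTheory CategoryTheory.Limits AlgebraicGeometry Opposite TopologicalSpace

namespace K424.AmpleDiv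

open Groth.Agent Groth.Agent.Fdesc.LocGen Groth.Agent.Fdesc Groth.Agent.Grpsch.PicGrp
open Groth.Agent.Dix.Cast1 Groth.Agent.FormalA.HHLin Groth.Agent.FormalB.HHLes

theorem isCoh_of_isInvertible' {X : Scheme.{u}} {L : X.Modules} (hL : PicF.IsInvertible L) : Coh.IsCoh L := by
  refine PerfA.CohSerre.isCoh_of_isFinLocFree ?_
  intro x
  obtain ⟨U, hU, ⟨e⟩⟩ := hL x
  refine ⟨U, 1, hU, ⟨e ≪≫ ?_⟩⟩
  exact (Limits.coproductUniqueIso (fun _ : Fin 1 => Coh.structureModule (↑U : Scheme.{u}))).symm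

variable (R : Type u) [CommRing R] [IsNoetherianRing R] {X D : Scheme.{u}} [X.Over (Spec (CommRingCat.of R))]
  [IsProper (X ↘ Spec (CommRingCat.of R))] (d : D ⟶ X) [IsClosedImmersion d]

omit [IsNoetherianRing R] [X.Over (Spec (CommRingCat.of R))] [IsProper (X ↘ Spec (CommRingCat.of R))]
  [IsClosedImmersion d] in
/-- `d^*(L^n) ≅ O_D ⊗ (d^*L)^n`. -/
theorem nonempty_pull_iso {L : X.Modules} (hL : PicF.IsInvertible L) (n : ℕ) :
    Nonempty ((Scheme.Modules.pullback d).obj (CohB1.tensorPow L n) ≅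
      CohB1.tensorMod (Coh.structureModule D) (CohB1.tensorPow ((Scheme.Modules.pullback d).obj L) n)) := by
  have hLd := isInvertible_pullback d hL
  rw [← mk_eq_iff (isInvertible_pullback d (isInvertible_tensorPow hL n))
    (isInvertible_tensorMod isInvertible_structureModule (isInvertible_tensorPow hLd n)),
    ← mk_mul_mk isInvertible_structureModule (isInvertible_tensorPow hLd n), mk_tensorPow hLd, ← one_def, one_mul,
    ← pull_mk d (isInvertible_tensorPow hL n), mk_tensorPow hL, ← pull_mk d hL, map_pow]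

include R in
/-- `O(D)` ample on `D` implies `O(mD)` globally generated for `m ≫ 0`. -/
theorem isGloballyGenerated (hD : BlowUp.IsEffCartierIdeal d.ker) (L : X.Modules)
    (hL : ClSub.IsInverseOf L (ClSub.idealMod d.ker))
    (ha : CohB1.IsAmple ((Scheme.Modules.pullback d).obj L)) :
    ∃ m₀ : ℕ, ∀ m : ℕ, m₀ ≤ m → Curv2.IsGloballyGenerated (CohB1.tensorPow L m) := by
  obtain ⟨hLi, hI⟩ := Dix.IdealModCartier.isInvertible_of_isInverseOf hL
  have hN : ∀ n, PicF.IsInvertible (CohB1.tensorPow L n) := isInvertible_tensorPow hLi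
  have hLd := isInvertible_pullback d hLi
  have hNX : IsLocallyNoetherian X := LocallyOfFiniteType.isLocallyNoetherian (X ↘ Spec (CommRingCat.of R))
  have hcD : CompactSpace D := ha.2.1
  have hND : IsLocallyNoetherian D := LocallyOfFiniteType.isLocallyNoetherian d
  have hNoeD : IsNoetherian D := ⟨⟩
  have hsepD : D.IsSeparated := by
    constructor
    rw [← terminal.comp_from (d ≫ (X ↘ Spec (CommRingCat.of R)))]
    infer_instance
  have hOD : Coh.IsCoh (Coh.structureModule D) := Fdesc.StructMod.isCoh_structureModule D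
  obtain ⟨n₁, hn₁⟩ := (S0051.result R D (d ≫ (X ↘ Spec (CommRingCat.of R))) _ hLd).1 ha _ hOD
  obtain ⟨n₂, hn₂⟩ := S2325.result D _ ha _ hOD
  -- the restriction sequences
  let S : ℕ → ShortComplex X.Modules := fun n => restrictSeq d (CohB1.tensorPow L (n₁ + n + 1))
  have hS : ∀ n, (S n).ShortExact := fun n => restrictSeq_shortExact d (hN (n₁ + n + 1))
  let e : ∀ n, CohB1.tensorPow L (n₁ + n) ≅ (S n).X₁ := fun n => (K480.GlobHor.exists_iso d L hL (n₁ + n)).some
  have h3 : ∀ n, Subsingleton (Coh.HH X (S n).X₃ 1) := by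
    intro n
    have h4 := hn₁ (n₁ + n + 1) (by omega) 1 one_pos
    obtain ⟨i⟩ := nonempty_pull_iso d hLi (n₁ + n + 1)
    have h5 : Subsingleton (Coh.HH D ((Scheme.Modules.pullback d).obj (CohB1.tensorPow L (n₁ + n + 1))) 1) := by
      let _ : D.Over (Spec (CommRingCat.of R)) := ⟨d ≫ (X ↘ Spec (CommRingCat.of R))⟩
      refine ⟨fun a b => ?_⟩
      have h6 : HHmap R i.hom 1 a = HHmap R i.hom 1 b := Subsingleton.elim _ _
      have h7 := congrArg (HHmap R i.inv 1) h6
      rwa [HHmap_comp_apply, HHmap_comp_apply, Iso.hom_inv_id, HHmap_id, LinearMap.id_apply,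
        LinearMap.id_apply] at h7
    exact subsingleton_HH_push d _ 1 h5
  let f : ∀ n, Coh.HH X (CohB1.tensorPow L (n₁ + n)) 1 →ₗ[R] Coh.HH X (CohB1.tensorPow L (n₁ + (n + 1))) 1 :=
    fun n => (HHmap R (S n).f 1).comp (HHmap R (e n).hom 1)
  have hsurj1 : ∀ n, Function.Surjective (HHmap R (S n).f 1) := by
    intro n x
    exact (exact_map_map R (hS n) 1 x).1 (@Subsingleton.elim _ (h3 n) _ _)
  have hbij : ∀ n, Function.Bijective (HHmap R (e n).hom 1) := by
    intro n
    refine Function.bijective_iff_has_inverse.2 ⟨HHmap R (e n).inv 1, fun x => ?_, fun x => ?_⟩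
    · rw [HHmap_comp_apply, Iso.hom_inv_id, HHmap_id]; rfl
    · rw [HHmap_comp_apply, Iso.inv_hom_id, HHmap_id]; rfl
  have hfs : ∀ n, Function.Surjective (f n) := fun n => (hsurj1 n).comp (hbij n).2
  have hfin : Module.Finite R (Coh.HH X (CohB1.tensorPow L (n₁ + 0)) 1) :=
    S0002.result R X _ (isCoh_of_isInvertible' (hN _)) 1
  obtain ⟨n₀, hn₀⟩ := K480.Stab.exists_stab (R := R) (fun n => Coh.HH X (CohB1.tensorPow L (n₁ + n)) 1) f hfs
  refine ⟨n₁ + n₀ + n₂ + 1, fun m hm => ?_⟩
  obtain ⟨n, rfl⟩ : ∃ n, m = n₁ + n + 1 := ⟨m - n₁ - 1, by omega⟩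
  have hinj : Function.Injective (HHmap R (S n).f 1) := by
    have h4 : Function.Injective ((HHmap R (S n).f 1) ∘ (HHmap R (e n).hom 1)) := hn₀ n (by omega)
    exact (Function.Injective.of_comp_iff' _ (hbij n)).1 h4
  have hlift := K480.GlobHor.surjective_of_injective R (hS n) hinj
  -- the global generation
  obtain ⟨s₀, hs₀⟩ := Dix.Cast5.exists_section d hD
  have hdi := isInvertible_dual hI
  obtain ⟨ed⟩ : Nonempty (CohB1.tensorPow (dual (ClSub.idealMod d.ker)) (n₁ + n + 1) ≅
      CohB1.tensorPow L (n₁ + n + 1)) := by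
    rw [← mk_eq_iff (isInvertible_tensorPow hdi (n₁ + n + 1)) (hN (n₁ + n + 1)), mk_tensorPow hdi, mk_tensorPow hLi,
      Models.H65.PicDeg.mk_of_isInverseOf hLi hI hL, inv_mk]
  have hcase : ∀ x : X, ∃ s : Coh.structureModule X ⟶ CohB1.tensorPow L (n₁ + n + 1),
      x ∈ CohB1.genLocus _ s := by
    intro x
    by_cases hx : x ∈ Set.range d
    · obtain ⟨p, rfl⟩ := hx
      have hMd := isInvertible_pullback d (hN (n₁ + n + 1))
      have hgg : Curv2.IsGloballyGenerated ((Scheme.Modules.pullback d).obj (CohB1.tensorPow L (n₁ + n + 1))) := by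
        obtain ⟨i⟩ := nonempty_pull_iso d hLi (n₁ + n + 1)
        obtain ⟨ι, p, hp⟩ := hn₂ (n₁ + n + 1) (by omega)
        exact ⟨ι, p ≫ i.inv, inferInstance⟩
      obtain ⟨σ, hσ⟩ := VarietyB.GenLocusTensor.exists_mem_genLocus hMd hgg p
      obtain ⟨t, ht⟩ := hlift (sec σ ⊤)
      refine ⟨homOf t, ?_⟩
      have h1 := Ega2.Weight.genLocus_pullHom d (hN (n₁ + n + 1)) (homOf t)
      have h2 : Ega2.Weight.pullHom d (homOf t) = σ := by
        have h5 : Ega2.Weight.pullHom d (homOf t) = homOf (pullTop d t) := by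
          unfold Ega2.Weight.pullHom
          rw [sec_homOf, res_refl]
          rfl
        rw [h5]
        have h6 : pullTop d t = sec σ ⊤ := ht
        rw [h6, homOf_sec]
      rw [h2] at h1
      exact h1.le hσ
    · refine ⟨powHom s₀ (n₁ + n + 1) ≫ ed.hom, ?_⟩
      rw [Ega2.Weight.genLocus_comp, genLocus_powHom hdi]
      have : x ∈ (CohB1.genLocus _ s₀ : Set X) := by rw [hs₀]; exact hx
      exact this
  choose s hs using hcase
  exact VarietyB.GlobGen.isGloballyGenerated_of_cover (κ := X) s (fun x => ⟨x, hs x⟩)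

end K424.AmpleDiv
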