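import Mathlib.Algebra.MvPolynomial.Funext
import Mathlib.Algebra.MvPolynomial.Degrees
import Mathlib.Algebra.BigOperators.Ring.Finset
import Mathlib.Data.Rat.Cast.CharZero
import Mathlib.Tactic

/-!
# The coefficient of `n₁ ⋯ n_d` of a polynomial of total degree `≤ d` as an alternating sum of values
-/

set_option autoImplicit false

namespace K424.CoefPoly

open MvPolynomial

/-- The exponent vector `1_S`. -/
def ind {d : ℕ} (S : Finset (Fin d)) : Fin d → ℕ := fun i => if i ∈ S then 1 else 0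

/-- The exponent `(1, …, 1)`. -/
noncomputable abbrev ones (d : ℕ) : Fin d →₀ ℕ := Finsupp.equivFunOnFinite.symm fun _ : Fin d => 1

theorem alt_sum_monomial {d : ℕ} (m : Fin d →₀ ℕ) :
    ∑ S : Finset (Fin d), (-1 : ℚ) ^ (d - S.card) * ∏ i, ((ind S i : ℕ) : ℚ) ^ m i =
      ∏ i, (1 + - (0 : ℚ) ^ m i) := by
  rw [Finset.prod_add (fun _ : Fin d => (1 : ℚ)) (fun i => - (0 : ℚ) ^ m i) Finset.univ, Finset.powerset_univ]
  refine Finset.sum_congr rfl fun S _ => ?_
  rw [Finset.prod_const_one, one_mul]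
  have h1 : ∏ i ∈ Finset.univ \ S, -(0 : ℚ) ^ m i = (-1) ^ (d - S.card) * ∏ i ∈ Finset.univ \ S, (0 : ℚ) ^ m i := by
    rw [Finset.prod_neg]
    congr 2
    rw [Finset.card_sdiff_of_subset (Finset.subset_univ S), Finset.card_univ, Fintype.card_fin]
  rw [h1]
  congr 1
  rw [← Finset.prod_sdiff (Finset.subset_univ S)]
  have h2 : ∏ i ∈ S, ((ind S i : ℕ) : ℚ) ^ m i = 1 := by
    refine Finset.prod_eq_one fun i hi => ?_
    simp [ind, hi]
  rw [h2, mul_one]
  refine Finset.prod_congr rfl fun i hi => ?_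
  have : i ∉ S := (Finset.mem_sdiff.mp hi).2
  simp [ind, this]

/-- **Key formula**: the coefficient of `n₁ ⋯ n_d` of a polynomial of total degree at most `d`. -/
theorem alt_sum_eq_coeff {d : ℕ} (P : MvPolynomial (Fin d) ℚ) (hP : P.totalDegree ≤ d) :
    ∑ S : Finset (Fin d), (-1 : ℚ) ^ (d - S.card) * eval (fun i => ((ind S i : ℕ) : ℚ)) P =
      coeff (ones d) P := by
  have h1 : ∀ S : Finset (Fin d), (-1 : ℚ) ^ (d - S.card) * eval (fun i => ((ind S i : ℕ) : ℚ)) P =
      ∑ m ∈ P.support, coeff m P * ((-1 : ℚ) ^ (d - S.card) * ∏ i, ((ind S i : ℕ) : ℚ) ^ m i) := by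
    intro S
    rw [eval_eq', Finset.mul_sum]
    refine Finset.sum_congr rfl fun m _ => ?_
    ring
  simp_rw [h1]
  rw [Finset.sum_comm]
  simp_rw [← Finset.mul_sum, alt_sum_monomial]
  have h2 : ∀ m ∈ P.support, m ≠ ones d → coeff m P * ∏ i, (1 + - (0 : ℚ) ^ m i) = 0 := by
    intro m hm hne
    have hdeg := (le_totalDegree hm).trans hP
    rw [Finsupp.sum_fintype _ _ (fun _ => rfl)] at hdeg
    -- some exponent vanishes
    have : ∃ i, m i = 0 := by
      by_contra hcon
      push Not at hcon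
      apply hne
      have hle : ∀ i, 1 ≤ m i := fun i => Nat.one_le_iff_ne_zero.mpr (hcon i)
      have hsum : ∑ i, m i = ∑ _i : Fin d, 1 := by
        refine le_antisymm ?_ (Finset.sum_le_sum fun i _ => hle i)
        simpa using hdeg
      have h3 := (Finset.sum_eq_sum_iff_of_le (fun i (_ : i ∈ Finset.univ) => hle i)).mp hsum.symm
      ext i
      simpa using (h3 i (Finset.mem_univ i)).symm
    obtain ⟨i, hi⟩ := this
    rw [Finset.prod_eq_zero (Finset.mem_univ i) (by simp [hi]), mul_zero]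
  by_cases hmem : ones d ∈ P.support
  · rw [Finset.sum_eq_single_of_mem (ones d) hmem h2]
    simp
  · rw [notMem_support_iff.mp hmem, Finset.sum_eq_zero]
    intro m hm
    exact h2 m hm (fun h => hmem (h ▸ hm))

/-- Polynomials agreeing at all tuples of natural numbers are equal. -/
theorem eq_of_nat {d : ℕ} (P Q : MvPolynomial (Fin d) ℚ)
    (h : ∀ n : Fin d → ℕ, eval (fun i => (n i : ℚ)) P = eval (fun i => (n i : ℚ)) Q) : P = Q := by
  refine funext_set (fun _ => Set.range (Nat.cast : ℕ → ℚ))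
    (fun _ => Set.infinite_range_of_injective Nat.cast_injective) fun x hx => ?_
  have hx' : ∀ i, ∃ n : ℕ, (n : ℚ) = x i := fun i => hx i trivial
  choose n hn using hx'
  obtain rfl : (fun i => (n i : ℚ)) = x := funext hn
  exact h n

end K424.CoefPoly
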