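import Groth.Agent.VarietyB.Delta
import Groth.Agent.S2498
import Groth.Agent.CurvesA.DvrCrit
import Mathlib.RingTheory.KrullDimension.Basic
import Mathlib.RingTheory.Ideal.MinimalPrime.Localization
import Mathlib.RingTheory.DedekindDomain.Basic
import Mathlib.RingTheory.DedekindDomain.Dvr
import Mathlib.LinearAlgebra.TensorProduct.RightExactness
import Mathlib.RingTheory.Flat.Basic
import Mathlib.RingTheory.LocalProperties.Reduced

/-!
# The delta invariant under a flat base change with reduced fibres
-/

set_option autoImplicit false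
universe u

open TensorProduct nonZeroDivisors IsLocalRing

namespace K424.DeltaBC

section Gen

/-- In a ring of dimension at most one, a prime containing a nonzerodivisor is maximal. -/
theorem isMaximal_of_mem {S : Type*} [CommRing S] [Ring.KrullDimLE 1 S] (P : Ideal S) [hP : P.IsPrime] {a : S}
    (ha : a ∈ S⁰) (haP : a ∈ P) : P.IsMaximal := by
  rcases Ring.krullDimLE_one_iff.mp inferInstance P hP with h | h
  · exact absurd ha (notMem_nonZeroDivisors_of_mem_mem_minimalPrimes haP h)
  · exact h

/-- A radical ideal containing a nonzerodivisor in a local ring of dimension at most one. -/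
theorem eq_maximalIdeal {S : Type*} [CommRing S] [IsLocalRing S] [Ring.KrullDimLE 1 S] {I : Ideal S}
    (hr : I.IsRadical) (hI : I ≤ maximalIdeal S) {a : S} (ha : a ∈ S⁰) (haI : a ∈ I) : I = maximalIdeal S := by
  refine le_antisymm hI ?_
  rw [← hr.radical, Ideal.radical_eq_sInf]
  refine le_sInf ?_
  rintro J ⟨hIJ, hJ⟩
  have := isMaximal_of_mem J ha (hIJ haI)
  exact (IsLocalRing.eq_maximalIdeal this).ge

/-- If every localization at a maximal ideal is an integrally closed domain then the ring is integrally closed in
any localization at nonzerodivisors. -/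
theorem mem_range_of_isIntegral {T Q : Type*} [CommRing T] [CommRing Q] [Algebra T Q] (S : Submonoid T)
    [IsLocalization S Q] (hS : S ≤ T⁰)
    (h : ∀ m : Ideal T, ∀ _ : m.IsMaximal, ∃ _ : IsDomain (Localization.AtPrime m),
      IsIntegrallyClosed (Localization.AtPrime m)) (z : Q) (hz : IsIntegral T z) :
    ∃ t : T, algebraMap T Q t = z := by
  have hinj : Function.Injective (algebraMap T Q) := IsLocalization.injective Q hS
  let J : Ideal T :=
    { carrier := {t | ∃ t', algebraMap T Q t' = algebraMap T Q t * z}
      add_mem' := by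
        rintro a b ⟨a', ha⟩ ⟨b', hb⟩
        exact ⟨a' + b', by rw [map_add, map_add, ha, hb, add_mul]⟩
      zero_mem' := ⟨0, by simp⟩
      smul_mem' := by
        rintro c a ⟨a', ha⟩
        exact ⟨c * a', by rw [map_mul, ha, smul_eq_mul, map_mul, mul_assoc]⟩ }
  by_cases hJ : J = ⊤
  · obtain ⟨t, ht⟩ := (Ideal.eq_top_iff_one J).mp hJ
    exact ⟨t, by rw [ht, map_one, one_mul]⟩
  · exfalso
    obtain ⟨m, hm, hJm⟩ := Ideal.exists_le_maximal J hJ
    obtain ⟨hdom, hic⟩ := h m hm
    let R := Localization.AtPrime m
    let F := FractionRing R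
    let f : T →+* F := (algebraMap R F).comp (algebraMap T R)
    have hu : ∀ s : S, IsUnit (f s) := by
      intro s
      have h1 : algebraMap T R s ≠ 0 := by
        intro h0
        rw [IsLocalization.map_eq_zero_iff m.primeCompl R] at h0
        obtain ⟨c, hc⟩ := h0
        have h2 : (c : T) = 0 := (mem_nonZeroDivisors_iff_right.mp (hS s.2)) c hc
        exact c.2 (h2 ▸ m.zero_mem)
      exact (IsUnit.mk0 _ ((map_ne_zero_iff _ (IsFractionRing.injective R F)).mpr h1))
    let g : Q →+* F := IsLocalization.lift hu
    have hg : ∀ t, g (algebraMap T Q t) = f t := fun t => IsLocalization.lift_eq hu t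
    have hcomm : ∀ t : T, g (algebraMap T Q t) = algebraMap T F t := fun t => by
      rw [IsScalarTower.algebraMap_apply T R F]
      exact hg t
    let g' : Q →ₐ[T] F := { toRingHom := g, commutes' := hcomm }
    have hint : IsIntegral R (g z) := (hz.map g').tower_top
    obtain ⟨r, hr⟩ := IsIntegrallyClosed.algebraMap_eq_of_integral hint
    obtain ⟨t, u, rfl⟩ := IsLocalization.exists_mk'_eq m.primeCompl r
    obtain ⟨a, s, rfl⟩ := IsLocalization.exists_mk'_eq S z
    -- `a u = s t` after multiplication by `v`
    have h1 : algebraMap T R (a * u) = algebraMap T R (s * t) := by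
      apply IsFractionRing.injective R F
      have h2 : f u * algebraMap R F (IsLocalization.mk' R t u) = f t := by
        change algebraMap R F (algebraMap T R u) * algebraMap R F (IsLocalization.mk' R t u) = algebraMap R F (algebraMap T R t)
        rw [← map_mul, IsLocalization.mk'_spec']
      have h3 : f s * g (IsLocalization.mk' Q a s) = f a := by
        rw [← hg s, ← map_mul, IsLocalization.mk'_spec', hg]
      change f (a * u) = f (s * t)
      rw [map_mul, map_mul, ← h2, ← h3, hr]
      ring
    obtain ⟨v, hv⟩ := (IsLocalization.eq_iff_exists m.primeCompl R).mp h1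
    have h4 : (v : T) * u ∈ J := by
      refine ⟨v * t, ?_⟩
      have h5 : algebraMap T Q s * algebraMap T Q (v * t) = algebraMap T Q s * (algebraMap T Q (v * u) *
          IsLocalization.mk' Q a s) := by
        have h6 : algebraMap T Q s * IsLocalization.mk' Q a s = algebraMap T Q a := IsLocalization.mk'_spec' _ _ _
        calc algebraMap T Q s * algebraMap T Q (v * t) = algebraMap T Q (v * (s * t)) := by
              rw [← map_mul]; congr 1; ring
          _ = algebraMap T Q (v * (a * u)) := by rw [hv]
          _ = algebraMap T Q a * algebraMap T Q (v * u) := by rw [← map_mul]; congr 1; ring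
          _ = _ := by rw [← h6]; ring
      exact (IsLocalization.map_units Q s).mul_left_cancel h5
    exact (m.primeCompl.mul_mem v.2 u.2) (hJm h4)

end Gen

section Loc

theorem isDVR_localization {D T : Type u} [CommRing D] [IsDedekindDomain D] [CommRing T]
    [Algebra D T] [Module.Flat D T] [IsNoetherianRing T] [Ring.KrullDimLE 1 T] (m : Ideal T) [m.IsPrime]
    (n : Ideal D) [n.IsPrime] (hn0 : n ≠ ⊥) (hnm : m.comap (algebraMap D T) = n)
    (hrad : (n.map (algebraMap D T)).IsRadical) :
    ∃ _ : IsDomain (Localization.AtPrime m), IsDiscreteValuationRing (Localization.AtPrime m) := by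
  let R := Localization.AtPrime m
  have hflat : Module.Flat D R := Module.Flat.trans D T R
  have hdim : Ring.KrullDimLE 1 R := by
    rw [Ring.krullDimLE_iff, IsLocalization.AtPrime.ringKrullDim_eq_height m R]
    exact (Ideal.height_le_ringKrullDim_of_ne_top (Ideal.IsPrime.ne_top inferInstance)).trans
      (Ring.krullDimLE_iff.mp inferInstance)
  let Dn := Localization.AtPrime n
  have hdvr : IsDiscreteValuationRing Dn := IsLocalization.AtPrime.isDiscreteValuationRing_of_dedekind_domain D hn0 Dn
  let φ : Dn →+* R := Localization.localRingHom n m (algebraMap D T) hnm.symm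
  have hφ : φ.comp (algebraMap D Dn) = algebraMap D R := by
    ext d
    exact (Localization.localRingHom_to_map n m (algebraMap D T) hnm.symm d).trans
      (IsScalarTower.algebraMap_apply D T R d).symm
  obtain ⟨ϖ, hϖ⟩ := IsDiscreteValuationRing.exists_irreducible Dn
  have hI : n.map (algebraMap D R) = Ideal.span {φ ϖ} := by
    rw [← hφ, ← Ideal.map_map]
    have h1 : n.map (algebraMap D Dn) = maximalIdeal Dn := Localization.AtPrime.map_eq_maximalIdeal
    rw [h1, hϖ.maximalIdeal_eq, Ideal.map_span, Set.image_singleton]
  have hI2 : n.map (algebraMap D R) = (n.map (algebraMap D T)).map (algebraMap T R) := by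
    rw [Ideal.map_map, ← IsScalarTower.algebraMap_eq D T R]
  have hrad2 : (n.map (algebraMap D R)).IsRadical := by
    rw [hI2, ← hrad.radical, IsLocalization.map_radical m.primeCompl R]
    exact Ideal.radical_isRadical _
  obtain ⟨a, han, ha0⟩ := Submodule.exists_mem_ne_zero_of_ne_bot hn0
  have ha : algebraMap D R a ∈ R⁰ :=
    Groth.Agent.VarietyB.Delta.algebraMap_mem_nonZeroDivisors D R (mem_nonZeroDivisors_of_ne_zero ha0)
  have haI : algebraMap D R a ∈ n.map (algebraMap D R) := Ideal.mem_map_of_mem _ han
  have hle : n.map (algebraMap D R) ≤ maximalIdeal R := by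
    rw [hI2]
    have h2 : (n.map (algebraMap D T)) ≤ m := Ideal.map_le_iff_le_comap.mpr hnm.ge
    refine (Ideal.map_mono h2).trans (le_of_eq ?_)
    exact Localization.AtPrime.map_eq_maximalIdeal
  have hmax := eq_maximalIdeal hrad2 hle ha haI
  rw [hI] at hmax haI
  refine Groth.Agent.CurvesA.DvrCrit.exists_isDomain_of_maximalIdeal_eq_span R (y := φ ϖ) ?_ hmax.symm
  obtain ⟨c, hc⟩ := Ideal.mem_span_singleton'.mp haI
  rw [mem_nonZeroDivisors_iff_right]
  intro x hx
  refine (mem_nonZeroDivisors_iff_right.mp ha) x ?_
  rw [← hc, mul_comm c, ← mul_assoc, hx, zero_mul]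

end Loc

section Red

variable (k A K : Type u) [Field k] [CommRing A] [Algebra k A] [Field K] [Algebra k K]
  (B : Type u) [CommRing B] [Algebra (A ⊗[k] K) B] [Algebra A B] [IsScalarTower A (A ⊗[k] K) B]
  (M : Submonoid (A ⊗[k] K)) [IsLocalization M B]
  (F : Type u) [CommRing F] [Algebra A F] [Algebra k F] [IsScalarTower k A F]

include M in
theorem isReduced_tensor [IsReduced (F ⊗[k] K)] : IsReduced (B ⊗[A] F) := by
  have h1 : IsReduced (F ⊗[A] (A ⊗[k] K)) :=
    isReduced_of_injective (Algebra.TensorProduct.cancelBaseChange k A F F K).toRingHom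
      (Algebra.TensorProduct.cancelBaseChange k A F F K).injective
  have h2 : IsReduced ((A ⊗[k] K) ⊗[A] F) :=
    isReduced_of_injective (Algebra.TensorProduct.comm A (A ⊗[k] K) F).toRingHom
      (Algebra.TensorProduct.comm A (A ⊗[k] K) F).injective
  have h3 : IsReduced (((A ⊗[k] K) ⊗[A] F) ⊗[A ⊗[k] K] B) :=
    isReduced_localizationPreserves (Algebra.algebraMapSubmonoid ((A ⊗[k] K) ⊗[A] F) M)
      (((A ⊗[k] K) ⊗[A] F) ⊗[A ⊗[k] K] B) h2
  have h4 : IsReduced (B ⊗[A ⊗[k] K] ((A ⊗[k] K) ⊗[A] F)) :=
    isReduced_of_injective (Algebra.TensorProduct.comm (A ⊗[k] K) B ((A ⊗[k] K) ⊗[A] F)).toRingHom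
      (Algebra.TensorProduct.comm (A ⊗[k] K) B ((A ⊗[k] K) ⊗[A] F)).injective
  exact isReduced_of_injective (Algebra.TensorProduct.cancelBaseChange A (A ⊗[k] K) B B F).symm.toRingHom
      (Algebra.TensorProduct.cancelBaseChange A (A ⊗[k] K) B B F).symm.injective

end Red

section Len

theorem length_baseChange_quot (A B : Type u) [CommRing A] [CommRing B] [Algebra A B] (M : Type u) [AddCommGroup M]
    [Module A M] (N : Submodule A M) :
    Module.length B ((B ⊗[A] M) ⧸ N.baseChange B) = Module.length B (B ⊗[A] (M ⧸ N)) := by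
  have h00 : Function.Exact N.subtype N.mkQ := LinearMap.exact_subtype_mkQ N
  have h0 : Function.Exact (N.subtype.lTensor B) (N.mkQ.lTensor B) :=
    lTensor_exact B h00 (Submodule.mkQ_surjective N)
  have hex : Function.Exact (N.subtype.baseChange B) (N.mkQ.baseChange B) := h0
  have hsurj : Function.Surjective (N.mkQ.baseChange B) :=
    LinearMap.lTensor_surjective B (Submodule.mkQ_surjective N)
  have hker : LinearMap.ker (N.mkQ.baseChange B) = N.baseChange B := hex.linearMap_ker_eq
  exact ((Submodule.quotEquivOfEq _ _ hker.symm).trans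
    (LinearMap.quotKerEquivOfSurjective (N.mkQ.baseChange B) hsurj)).length_eq

end Len

section Main

open Groth.Agent.VarietyB.Delta

theorem ringKrullDim_le_of_isIntegral {R A : Type*} [CommRing R] [CommRing A] [Algebra R A]
    [Algebra.IsIntegral R A] : ringKrullDim A ≤ ringKrullDim R := by
  refine Order.krullDim_le_of_strictMono (fun x : PrimeSpectrum A ↦ PrimeSpectrum.comap (algebraMap R A) x) ?_
  intro x y hxy
  exact Ideal.IsIntegral.comap_lt_comap (R := R) (A := A) hxy

theorem isRadical_map {A B D : Type u} [CommRing A] [CommRing B] [CommRing D] [Algebra A B] [Algebra A D]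
    (n : Ideal D) [IsReduced (B ⊗[A] (D ⧸ n))] :
    (n.map (Algebra.TensorProduct.includeRight : D →ₐ[A] B ⊗[A] D)).IsRadical := by
  have h := Algebra.TensorProduct.lTensor_ker (A := B) (Ideal.Quotient.mkₐ A n) (Ideal.Quotient.mkₐ_surjective A n)
  have h2 : RingHom.ker (Ideal.Quotient.mkₐ A n) = n := Ideal.Quotient.mkₐ_ker A n
  rw [h2] at h
  rw [← h]
  intro x hx
  obtain ⟨r, hr⟩ := hx
  rw [RingHom.mem_ker] at hr ⊢
  rw [map_pow] at hr
  exact eq_zero_of_pow_eq_zero hr

variable (A B : Type u) [CommRing A] [CommRing B] [Algebra A B] [Module.Flat A B]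

/-- The algebra map `B ⊗ A' → Q(B)`. -/
noncomputable def psi : B ⊗[A] integralClosure A (FractionRing A) →ₐ[B] FractionRing B :=
  (tensFrac A B).comp (Algebra.TensorProduct.map (AlgHom.id B B) (integralClosure A (FractionRing A)).val)

theorem psi_eq (z : B ⊗[A] integralClosure A (FractionRing A)) : psi A B z = (toIntCl A B z).1 := rfl

theorem psi_injective : Function.Injective (psi A B) := fun _ _ h =>
  toIntCl_injective A B (Subtype.ext h)

omit [Module.Flat A B] in
theorem comap_maximalIdeal_eq [IsLocalRing A] [IsLocalRing B] [h : IsLocalHom (algebraMap A B)] :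
    (maximalIdeal B).comap (algebraMap A B) = maximalIdeal A :=
  (((IsLocalRing.local_hom_TFAE (algebraMap A B)).out 0 4 :)).mp h

attribute [local instance] Algebra.TensorProduct.rightAlgebra in
theorem toIntCl_surjective [IsDomain A] [IsLocalRing A] [IsLocalRing B] [IsNoetherianRing B]
    [Ring.KrullDimLE 1 B] [IsLocalHom (algebraMap A B)]
    [IsDedekindDomain (integralClosure A (FractionRing A))] [Module.Finite A (integralClosure A (FractionRing A))]
    (hA : ¬ IsField A) (hred : ∀ n : Ideal (integralClosure A (FractionRing A)), n.IsMaximal →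
      IsReduced (B ⊗[A] (integralClosure A (FractionRing A) ⧸ n))) :
    Function.Surjective (toIntCl A B) := by
  intro z
  let D := integralClosure A (FractionRing A)
  let T := B ⊗[A] D
  let Q := FractionRing B
  let algTQ : Algebra T Q := (psi A B).toRingHom.toAlgebra
  have htow : IsScalarTower B T Q := IsScalarTower.of_algebraMap_eq fun b => ((psi A B).commutes b).symm
  have hTfin : Module.Finite B T := inferInstance
  have hTn : IsNoetherianRing T := IsNoetherianRing.of_finite B T
  have hTint : Algebra.IsIntegral B T := inferInstance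
  have hTdim : Ring.KrullDimLE 1 T :=
    Ring.krullDimLE_iff.mpr ((ringKrullDim_le_of_isIntegral (R := B) (A := T)).trans
      (Ring.krullDimLE_iff.mp inferInstance))
  have hunit : ∀ s : B⁰, IsUnit (algebraMap T Q (algebraMap B T s)) := by
    intro s
    rw [← IsScalarTower.algebraMap_apply B T Q]
    exact IsLocalization.map_units Q s
  have hloc : IsLocalization (Algebra.algebraMapSubmonoid T B⁰) Q := by
    refine ⟨?_, ?_, ?_⟩
    · rintro ⟨_, s, hs, rfl⟩
      exact hunit ⟨s, hs⟩
    · intro w
      obtain ⟨b, s, hbs⟩ := IsLocalization.exists_mk'_eq B⁰ w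
      refine ⟨⟨algebraMap B T b, ⟨algebraMap B T s, s, s.2, rfl⟩⟩, ?_⟩
      change w * algebraMap T Q (algebraMap B T s) = algebraMap T Q (algebraMap B T b)
      rw [← IsScalarTower.algebraMap_apply B T Q, ← IsScalarTower.algebraMap_apply B T Q, ← hbs,
        IsLocalization.mk'_spec]
    · intro x y hxy
      exact ⟨1, by rw [psi_injective A B hxy]⟩
  have hreg : Algebra.algebraMapSubmonoid T B⁰ ≤ T⁰ := by
    rintro _ ⟨s, hs, rfl⟩
    rw [mem_nonZeroDivisors_iff_right]
    intro x hx
    apply psi_injective A B
    have h1 : algebraMap T Q x * algebraMap T Q (algebraMap B T s) = 0 := by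
      rw [← map_mul]
      exact (congrArg (algebraMap T Q) hx).trans (map_zero _)
    rw [map_zero]
    exact ((hunit ⟨s, hs⟩).mul_left_eq_zero).mp h1
  have hDT : Module.Flat D T := Module.Flat.of_linearEquiv (Algebra.TensorProduct.commRight A D B).symm.toLinearEquiv
  have key : ∀ m : Ideal T, ∀ _ : m.IsMaximal, ∃ _ : IsDomain (Localization.AtPrime m),
      IsIntegrallyClosed (Localization.AtPrime m) := by
    intro m hm
    let n : Ideal D := m.comap (algebraMap D T)
    have hDint : Algebra.IsIntegral A D := inferInstance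
    have hmB : m.comap (algebraMap B T) = maximalIdeal B :=
      IsLocalRing.eq_maximalIdeal (Ideal.isMaximal_comap_of_isIntegral_of_isMaximal m)
    have hnA : n.comap (algebraMap A D) = maximalIdeal A := by
      rw [Ideal.comap_comap]
      have h1 : (algebraMap D T).comp (algebraMap A D) = (algebraMap B T).comp (algebraMap A B) := by
        rw [← IsScalarTower.algebraMap_eq A B T]
        exact (Algebra.TensorProduct.includeRight : D →ₐ[A] B ⊗[A] D).comp_algebraMap
      rw [h1, ← Ideal.comap_comap, hmB]
      exact comap_maximalIdeal_eq A B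
    have hnmax : n.IsMaximal := by
      have : n.IsPrime := Ideal.comap_isPrime _ _
      apply Ideal.isMaximal_of_isIntegral_of_isMaximal_comap (R := A) n
      rw [hnA]
      infer_instance
    have hn0 : n ≠ ⊥ := by
      intro h0
      rw [h0] at hnA
      have hinj : Function.Injective (algebraMap A D) :=
        FaithfulSMul.algebraMap_injective A D
      rw [Ideal.comap_bot_of_injective _ hinj] at hnA
      exact hA ((IsLocalRing.isField_iff_maximalIdeal_eq).mpr hnA.symm)
    have := hred n hnmax
    obtain ⟨h1, h2⟩ := isDVR_localization m n hn0 rfl (isRadical_map n)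
    exact ⟨h1, inferInstance⟩
  obtain ⟨t, ht⟩ := mem_range_of_isIntegral (Algebra.algebraMapSubmonoid T B⁰) hreg key (z : Q) (z.2.tower_top)
  exact ⟨t, Subtype.ext ht⟩

/-- The maximal ideal of `A` generates the maximal ideal of `B`. -/
theorem map_maximalIdeal [IsDomain A] [IsLocalRing A] [IsLocalRing B]
    [Ring.KrullDimLE 1 B] [IsLocalHom (algebraMap A B)] (hA : ¬ IsField A)
    (F : Type u) [Field F] [Algebra A F] (hF : RingHom.ker (algebraMap A F) = maximalIdeal A)
    [IsReduced (B ⊗[A] F)] :
    (maximalIdeal A).map (algebraMap A B) = maximalIdeal B := by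
  obtain ⟨a, ham, ha0⟩ := Submodule.exists_mem_ne_zero_of_ne_bot
    (fun h => hA (IsLocalRing.isField_iff_maximalIdeal_eq.mpr h) : maximalIdeal A ≠ ⊥)
  refine eq_maximalIdeal ?_ ?_ (algebraMap_mem_nonZeroDivisors A B (mem_nonZeroDivisors_of_ne_zero ha0))
    (Ideal.mem_map_of_mem _ ham)
  · -- the kernel of `B → B ⊗ F` is `m_A B`
    let κ := A ⧸ maximalIdeal A
    let j : κ →ₐ[A] F := Ideal.Quotient.liftₐ (maximalIdeal A) (Algebra.ofId A F) (fun a ha => by
      rw [← hF] at ha
      exact ha)
    have hj : Function.Injective j := by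
      let fldκ : Field κ := Ideal.Quotient.field _
      exact j.toRingHom.injective
    have hBj : Function.Injective (Algebra.TensorProduct.map (AlgHom.id B B) j) :=
      Module.Flat.lTensor_preserves_injective_linearMap (M := B) j.toLinearMap hj
    have hred : IsReduced (B ⊗[A] κ) := isReduced_of_injective _ hBj
    rw [Ideal.isRadical_iff_quotient_reduced]
    let e := Algebra.TensorProduct.quotIdealMapEquivTensorQuot B (maximalIdeal A)
    exact isReduced_of_injective e.toRingHom e.injective
  · exact Ideal.map_le_iff_le_comap.mpr (comap_maximalIdeal_eq A B).ge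

/-- Equality of delta invariants. -/
theorem deltaInv_eq [IsDomain A] [IsLocalRing A] [IsLocalRing B] [IsNoetherianRing B]
    [Ring.KrullDimLE 1 B] [IsLocalHom (algebraMap A B)]
    [IsDedekindDomain (integralClosure A (FractionRing A))] [Module.Finite A (integralClosure A (FractionRing A))]
    (hA : ¬ IsField A) (hred : ∀ n : Ideal (integralClosure A (FractionRing A)), n.IsMaximal →
      IsReduced (B ⊗[A] (integralClosure A (FractionRing A) ⧸ n)))
    (hmax : (maximalIdeal A).map (algebraMap A B) = maximalIdeal B) :
    Curv2.deltaInv A = Curv2.deltaInv B := by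
  have hff : Module.FaithfullyFlat A B := Module.FaithfullyFlat.of_flat_of_isLocalHom
  let N := LinearMap.range (Algebra.linearMap A ↥(integralClosure A (FractionRing A)))
  let e : B ⊗[A] integralClosure A (FractionRing A) ≃ₗ[B] integralClosure B (FractionRing B) :=
    LinearEquiv.ofBijective (toIntCl A B) ⟨toIntCl_injective A B, toIntCl_surjective A B hA hred⟩
  have h1 : Module.length B ((B ⊗[A] integralClosure A (FractionRing A)) ⧸ N.baseChange B) = Curv2.deltaInv B := by
    unfold Curv2.deltaInv
    refine LinearEquiv.length_eq (Submodule.Quotient.equiv _ _ e ?_)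
    exact submoduleMap_range A B
  have h2 : Module.length B ((B ⊗[A] integralClosure A (FractionRing A)) ⧸ N.baseChange B) =
      Module.length B (B ⊗[A] (integralClosure A (FractionRing A) ⧸ N)) :=
     length_baseChange_quot A B _ N
  have h4 : Module.length B (B ⧸ ((IsLocalRing.maximalIdeal A).map (algebraMap A B) • (⊤ : Submodule B B))) = 1 := by
    rw [hmax]
    have h5 : (maximalIdeal B • (⊤ : Submodule B B)) = maximalIdeal B := by
      rw [smul_eq_mul, Ideal.mul_top]
    rw [h5]
    have : IsSimpleModule B (B ⧸ maximalIdeal B) := by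
      rw [isSimpleModule_iff_isCoatom]
      exact (inferInstance : (maximalIdeal B).IsMaximal).out
    exact Module.length_eq_one B _
  have h3 := Groth.Agent.S2498.result (A := A) (B := B) (integralClosure A (FractionRing A) ⧸ N) B
    (Module.length_ne_top_iff.mp (by rw [h4]; exact ENat.one_ne_top))
  rw [← h1, h2, h3, h4, mul_one]
  rfl

end Main

end K424.DeltaBC
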