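import Groth.Agent.PosLin.K931.Descend
import Groth.Agent.Sga5.AmpleFib
import Groth.Agent.VarietyA.AmpleField
import Groth.Agent.Ega3B.ProjFrame
import Groth.Agent.S2327
import Groth.Agent.S2336

/-!
# Globally generated and finite on trivial closed subschemes implies ample (helper424)

* `isFinite_of_closed_fibers`: a proper morphism whose fibres through closed points are finite is finite.
* `isAmple_of_gg`: `X` proper over a field, `L^N` globally generated, and every closed subscheme `Z` of `X` with
  `L^N|_Z` trivial finite over `k`; then `L` is ample.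
-/

set_option autoImplicit false
universe u

open CategoryTheory CategoryTheory.Limits AlgebraicGeometry TopologicalSpace

namespace K424.GGFin

open Groth.Agent Groth.Agent.Fdesc.LocGen Groth.Agent.Sga5.AmpleFib

theorem isFinite_of_closed_fibers {X Y : Scheme.{u}} [CompactSpace X] (f : X ⟶ Y) [IsProper f]
    (h : ∀ x : X, IsClosed ({x} : Set X) → IsFinite (f.fiberToSpecResidueField (f x))) : IsFinite f := by
  have h1 : f.quasiFiniteLocus = ⊤ := by
    by_contra hne
    have hne' : (((f.quasiFiniteLocus : Set X))ᶜ).Nonempty := by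
      rw [Set.nonempty_compl]
      intro h2
      exact hne (SetLike.coe_injective h2)
    obtain ⟨x, hx, hxc⟩ := f.quasiFiniteLocus.isOpen.isClosed_compl.exists_closed_singleton hne'
    apply hx
    have := h x hxc
    change f.QuasiFiniteAt x
    rw [Scheme.Hom.quasiFiniteAt_iff_isOpen_singleton_asFiber]
    have hA : IsLocallyArtinian (f.fiber (f x)) := .of_locallyQuasiFinite (f.fiberToSpecResidueField (f x))
    exact isOpen_discrete _
  rw [Scheme.Hom.quasiFiniteLocus_eq_top_iff] at h1
  exact IsFinite.of_isProper_of_locallyQuasiFinite f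

/-- A closed subscheme on which `L` is ample and a power of `L` trivial is finite. -/
theorem isFinite_of_isAmple_of_trivial {k : Type u} [Field k] {X : Scheme.{u}} (q : X ⟶ Spec (CommRingCat.of k))
    [IsProper q] {L : X.Modules} (hL : CohB1.IsAmple L) {N : ℕ} (hN : 0 < N)
    (h : Nonempty (Coh.structureModule X ≅ CohB1.tensorPow L N)) : IsFinite q := by
  have hc : CompactSpace X := hL.2.1
  have hs : X.IsSeparated := by
    constructor
    rw [← terminal.comp_from q]
    infer_instance
  have h1 := (S2327.result X L hL.1 N hN).1 hL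
  obtain ⟨e⟩ := h
  have h2 : CohB1.IsAmple (Coh.structureModule X) := Flat2H.FamDict.isAmple_of_iso e.symm h1
  have h3 : X.IsQuasiAffine := (S2336.result X).2 h2
  exact isFinite_of_isQuasiAffine q

/-- **Globally generated and finite on trivial closed subschemes implies ample.** -/
theorem isAmple_of_gg {k : Type u} [Field k] {X : Scheme.{u}} (q : X ⟶ Spec (CommRingCat.of k)) [IsProper q]
    {L : X.Modules} (hL : PicF.IsInvertible L) {N : ℕ} (hN : 0 < N)
    (hgg : Curv2.IsGloballyGenerated (CohB1.tensorPow L N))
    (h : ∀ (Z : Scheme.{u}) (i : Z ⟶ X) [IsClosedImmersion i],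
      Nonempty (Coh.structureModule Z ≅ (Scheme.Modules.pullback i).obj (CohB1.tensorPow L N)) →
        IsFinite (i ≫ q)) :
    CohB1.IsAmple L := by
  have hc : CompactSpace X := QuasiCompact.compactSpace_of_compactSpace q
  have hs : X.IsSeparated := by
    constructor
    rw [← terminal.comp_from q]
    infer_instance
  obtain ⟨n, r, hr, ⟨τ⟩⟩ := K931.Descend.exists_map q (isInvertible_tensorPow hL N) hgg
  have hrq : IsProper (r ≫ CohB1.ProjSpace.toSpec n k) := by rw [hr]; infer_instance
  have hrp : IsProper r := IsProper.of_comp r (CohB1.ProjSpace.toSpec n k)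
  have hO1 : PicF.IsInvertible (Twist.twistProjSpace n k 1) := Ega3B.ProjFrame.isInvertible_twistProjSpace n k 1
  have hfin : IsFinite r := by
    refine isFinite_of_closed_fibers r fun x hx => ?_
    have hy : IsClosed ({r x} : Set (CohB1.ProjSpace n k)) := by
      have := r.isClosedMap _ hx
      rwa [Set.image_singleton] at this
    have hcl : IsClosedImmersion ((CohB1.ProjSpace n k).fromSpecResidueField (r x)) :=
      isClosed_singleton_iff_isClosedImmersion.1 hy
    have hi : IsClosedImmersion (r.fiberι (r x)) :=
      MorphismProperty.pullback_fst (P := @IsClosedImmersion) _ _ hcl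
    obtain ⟨e⟩ := nonempty_iso_pullback_of_const (r.fiberι (r x) ≫ r) (r x) (fun z ↦ by
      have h3 : r.fiberι (r x) z ∈ Set.range (r.fiberι (r x)) := ⟨z, rfl⟩
      rw [r.range_fiberι (r x)] at h3
      exact h3) hO1
    have h4 := h _ (r.fiberι (r x)) ⟨e ≪≫ ((Scheme.Modules.pullbackComp (r.fiberι (r x)) r).app _).symm ≪≫
      (Scheme.Modules.pullback (r.fiberι (r x))).mapIso τ⟩
    have h5 : r.fiberι (r x) ≫ q = r.fiberToSpecResidueField (r x) ≫
        ((CohB1.ProjSpace n k).fromSpecResidueField (r x) ≫ CohB1.ProjSpace.toSpec n k) := by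
      rw [← hr, ← Category.assoc, ← Category.assoc]
      congr 1
      exact pullback.condition
    rw [h5] at h4
    exact IsFinite.of_comp (r.fiberToSpecResidueField (r x))
      ((CohB1.ProjSpace n k).fromSpecResidueField (r x) ≫ CohB1.ProjSpace.toSpec n k)
  have h6 := isAmple_pullback r (VarietyA.AmpleField.isAmple_twistProjSpace n k)
  have h7 : CohB1.IsAmple (CohB1.tensorPow L N) := Flat2H.FamDict.isAmple_of_iso τ h6
  exact (S2327.result X L hL N hN).2 h7

end K424.GGFin
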