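import Groth.Agent.Vanish.K910.HZ
import Groth.Agent.FormalB.HHLes
import Groth.Agent.Ega3B.Devissage
import Groth.Agent.CohqB.DevSimple

/-!
# Higher cohomology of `L^q` on an integral scheme, when `L` is ample on all proper closed subschemes (helper424)

`X` integral, proper over a field, `L` invertible such that `H^p(X, L^q ⊗ T) = 0` for `p > 0`, `q ≫ 0` and every
coherent `T` vanishing at the generic point.  Then `h^i(L^q)` is eventually constant for `i ≥ 2`.
-/

set_option autoImplicit false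
universe u
open CategoryTheory CategoryTheory.Limits AlgebraicGeometry TopologicalSpace

namespace K424.NakCmp

open Groth.Agent Groth.Agent.Fga Groth.Agent.Fga.PicMon Groth.Agent.FormalA.HHLin Groth.Agent.FormalB.HHLes
  Groth.Agent.Ega3B.Devissage K910.HZ

section les

variable (k : Type u) [CommRing k] {X : Scheme.{u}} [X.Over (Spec (CommRingCat.of k))]

theorem bij_g {S : ShortComplex X.Modules} (hS : S.ShortExact) (i : ℕ) (h1 : Subsingleton (Coh.HH X S.X₁ i))
    (h2 : Subsingleton (Coh.HH X S.X₁ (i + 1))) : Nonempty (Coh.HH X S.X₂ i ≃ₗ[k] Coh.HH X S.X₃ i) := by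
  refine ⟨LinearEquiv.ofBijective (HHmap k S.g i) ⟨?_, ?_⟩⟩
  · rw [injective_iff_map_eq_zero]
    intro x hx
    obtain ⟨y, rfl⟩ := (exact_map_map k hS i x).1 hx
    rw [Subsingleton.elim y 0, map_zero]
  · intro x
    exact (exact_map_δ k hS i x).1 (Subsingleton.elim _ _)

theorem bij_f {S : ShortComplex X.Modules} (hS : S.ShortExact) (i : ℕ) (h1 : Subsingleton (Coh.HH X S.X₃ i))
    (h2 : Subsingleton (Coh.HH X S.X₃ (i + 1))) :
    Nonempty (Coh.HH X S.X₁ (i + 1) ≃ₗ[k] Coh.HH X S.X₂ (i + 1)) := by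
  refine ⟨LinearEquiv.ofBijective (HHmap k S.f (i + 1)) ⟨?_, ?_⟩⟩
  · rw [injective_iff_map_eq_zero]
    intro x hx
    obtain ⟨y, rfl⟩ := (exact_δ_map k hS i x).1 hx
    rw [Subsingleton.elim y 0, map_zero]
  · intro x
    exact (exact_map_map k hS (i + 1) x).1 (Subsingleton.elim _ _)

end les

variable (k : Type u) [Field k] {X : Scheme.{u}} [X.Over (Spec (CommRingCat.of k))]
  [IsProper (X ↘ Spec (CommRingCat.of k))] [IsIntegral X] (L : X.Modules)

/-- `H^p(X, L^q ⊗ T) = 0` for `p > 0`, `q ≫ 0`, `T` coherent and torsion. -/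
def TVan {X : Scheme.{u}} [IsIntegral X] (L : X.Modules) : Prop :=
  ∀ T : X.Modules, Coh.IsCoh T → genericPoint X ∉ CohB1.support T →
  ∃ q₀ : ℕ, ∀ q, q₀ ≤ q → ∀ p, 0 < p → Subsingleton (Coh.HH X (CohB1.tensorMod (CohB1.tensorPow L q) T) p)

variable {L}

theorem cmp (hL : PicF.IsInvertible L) (hvan : TVan L) {M N : X.Modules} (hM : Coh.IsCoh M) (hN : Coh.IsCoh N)
    (f : M ⟶ N) (hk : genericPoint X ∉ CohB1.support (kernel f))
    (hc : genericPoint X ∉ CohB1.support (cokernel f)) :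
    ∃ q₀ : ℕ, ∀ q, q₀ ≤ q → ∀ i, 2 ≤ i →
      Nonempty (Coh.HH X (CohB1.tensorMod (CohB1.tensorPow L q) M) i ≃ₗ[k]
        Coh.HH X (CohB1.tensorMod (CohB1.tensorPow L q) N) i) := by
  have := IntAdd.isNoetherian k X
  have hkc : Coh.IsCoh (kernel f) := Sga67.CohBasic.isCoh_kernel _ hM hN.1
  have hcc : Coh.IsCoh (cokernel f) := Sga67.CohBasic.isCoh_cokernel _ hM.1 hN
  obtain ⟨q₁, hq₁⟩ := hvan _ hkc hk
  obtain ⟨q₂, hq₂⟩ := hvan _ hcc hc
  refine ⟨max q₁ q₂, fun q hq i hi => ?_⟩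
  have hLq := Fdesc.LocGen.isInvertible_tensorPow hL q
  have s1 := TwistCoh.shortExact_tensorBi hLq _ (image_ses₁ f)
  have s2 := TwistCoh.shortExact_tensorBi hLq _ (image_ses₂ f)
  obtain ⟨e1⟩ := bij_g k s1 i (hq₁ q (le_trans (le_max_left _ _) hq) i (by omega))
    (hq₁ q (le_trans (le_max_left _ _) hq) (i + 1) (by omega))
  obtain ⟨j, rfl⟩ : ∃ j, i = j + 1 := ⟨i - 1, by omega⟩
  obtain ⟨e2⟩ := bij_f k s2 j (hq₂ q (le_trans (le_max_right _ _) hq) j (by omega))
    (hq₂ q (le_trans (le_max_right _ _) hq) (j + 1) (by omega))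
  exact ⟨e1.trans e2⟩

end K424.NakCmp
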