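import Groth.Agent.Vanish.K909.Kleiman
import Groth.Agent.Vanish.K910.Growth
import Groth.Agent.Vanish.K910.DiffGrowth

/-!
# Growth of `χ(L^q)` when `(L^r · X) > 0` (helper424)
-/

set_option autoImplicit false
universe u
open CategoryTheory CategoryTheory.Limits AlgebraicGeometry TopologicalSpace

namespace K424.NakGrow

open Groth.Agent Groth.Agent.Fga Groth.Agent.Fga.PicMon Groth.Agent.Grpsch.PicGrp K909.InterML
  Groth.Agent.Pic13.H970.IntForm

variable (k : Type u) [Field k] {X : Scheme.{u}} [X.Over (Spec (CommRingCat.of k))]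
  [IsProper (X ↘ Spec (CommRingCat.of k))] (d : ℕ) (hd : topologicalKrullDim X ≤ d)

include hd in
/-- Twisting does not change the top intersection numbers. -/
theorem inter_tensor {A : X.Modules} (hA : PicF.IsInvertible A) {F : X.Modules} (hF : Coh.IsCoh F) {r : ℕ}
    (hr : topologicalKrullDim (CohB1.support F) ≤ r) (c : Fin r → Pic X) :
    inter k X d (CohB1.tensorMod A F) c = inter k X d F c := by
  have := Fga.IntAdd.isNoetherian k X
  have h1 := I_cons_mk k X d F hA (fun i => (c i)⁻¹)
  rw [I_eq_zero k X d hd F hF _ (lt_of_le_of_lt hr (by exact_mod_cast Nat.lt_succ_self r))] at h1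
  unfold inter
  linarith

include hd in
/-- `χ(L^q)` grows like `q^r` if `(L^r · X) > 0`, `r = dim X`. -/
theorem exists_lower {L : X.Modules} (hL : PicF.IsInvertible L) {F : X.Modules} (hF : Coh.IsCoh F) {r : ℕ}
    (hr : topologicalKrullDim (CohB1.support F) ≤ r) (hpos : 0 < inter k X d F (fun _ : Fin r => mk L hL)) :
    ∃ a q₀ : ℕ, 0 < a ∧ ∀ q, q₀ ≤ q →
      (q : ℤ) ^ r ≤ a * FGA.eulerCharLE k X (CohB1.tensorMod (CohB1.tensorPow L q) F) d := by
  have hLM : mk L hL * mk (dual L) (isInvertible_dual hL) = 1 := by rw [← inv_mk hL, mul_inv_cancel]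
  have hLM' : mc (dual L) * mc L = 1 := by
    have := congrArg (toMC X) hLM
    rw [map_mul, map_one] at this
    rw [mul_comm]
    exact this
  obtain ⟨e⟩ : Nonempty (CohB1.tensorMod L (dual L) ≅ Coh.structureModule X) :=
    (mc_eq_iff _ _).1 (by rw [mc_tensor, mul_comm, hLM', mc_one])
  refine K910.DiffGrowth.lower r (fun q => FGA.eulerCharLE k X (CohB1.tensorMod (CohB1.tensorPow L q) F) d) 0
    fun q _ => ?_
  rw [K910.Growth.fwdDiff_euler k d hLM']
  have h1 := inter_mk k X d (CohB1.tensorMod (CohB1.tensorPow L (q + r)) F) (fun _ : Fin r => L) (fun _ => dual L)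
    (fun _ => hL) (fun _ => isInvertible_dual hL) (fun _ => ⟨e⟩)
  rw [inter_tensor k d hd (Fdesc.LocGen.isInvertible_tensorPow hL _) hF hr] at h1
  rw [← h1]
  exact hpos

end K424.NakGrow
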