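import Groth.Agent.Variety.K424.NakCmp
import Groth.Agent.Variety.K424.NakGrow
import Groth.Agent.CohqB.DevSimple
import Groth.Agent.CohqB.KerTrick

/-!
# A power of `L` has a nonzero section if `(L^r · X) > 0` (helper424)

`X` integral, proper over a field, of dimension `r > 0`, `L` invertible with `(L^r · X) > 0` such that
`H^p(X, L^q ⊗ T) = 0` for `p > 0`, `q ≫ 0` and every coherent `T` vanishing at the generic point.  Then some
positive power of `L` has a nonzero section.
-/

set_option autoImplicit false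
universe u
open CategoryTheory CategoryTheory.Limits AlgebraicGeometry TopologicalSpace

namespace K424.NakSec

open Groth.Agent Groth.Agent.Fga Groth.Agent.Fga.PicMon Groth.Agent.FormalA.HHLin Groth.Agent.FormalB.HHLes
  Groth.Agent.Ega3B.Devissage K910.HZ K424.NakCmp Groth.Agent.Fdesc.LocGen Groth.Agent.CycB.StalkExact
  Groth.Agent.Grpsch.PicGrp K909.InterML

section simple

variable {X : Scheme.{u}} [IsIntegral X]

theorem isUnit_stalk (r : X.presheaf.stalk (genericPoint X)) (hr : r ≠ 0) : IsUnit r := by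
  have h : IsField X.functionField := Field.toIsField X.functionField
  obtain ⟨s, hs⟩ := h.mul_inv_cancel (a := (r : X.functionField)) hr
  exact IsUnit.of_mul_eq_one s hs

/-- The stalk of an invertible module at the generic point is simple. -/
theorem isSimpleModule_stalk {L : X.Modules} (hL : PicF.IsInvertible L) :
    IsSimpleModule (X.presheaf.stalk (genericPoint X)) (L.presheaf.stalk (genericPoint X)) := by
  rw [isInvertible_iff] at hL
  obtain ⟨U, e, hxU, he⟩ := hL (genericPoint X)
  have hb := CohqB.DevSimple.germ_bijective_of_isGen he (genericPoint X) hxU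
  let φ : X.presheaf.stalk (genericPoint X) ≃ₗ[X.presheaf.stalk (genericPoint X)]
      L.presheaf.stalk (genericPoint X) :=
    LinearEquiv.ofBijective (LinearMap.toSpanSingleton _ _ (L.presheaf.germ U _ hxU e)) hb
  have : IsSimpleModule (X.presheaf.stalk (genericPoint X)) (X.presheaf.stalk (genericPoint X)) := by
    rw [isSimpleModule_iff_toSpanSingleton_surjective]
    refine ⟨inferInstance, fun m hm r => ?_⟩
    obtain ⟨v, hv⟩ := isUnit_stalk m hm
    refine ⟨r * ↑v⁻¹, ?_⟩
    rw [LinearMap.toSpanSingleton_apply, smul_eq_mul, ← hv, mul_assoc, Units.inv_mul, mul_one]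
  exact IsSimpleModule.congr φ.symm

/-- Two invertible modules are related by a correspondence which is an isomorphism at the generic point. -/
theorem exists_correspondence [IsNoetherian X] {G F : X.Modules} (hG : PicF.IsInvertible G)
    (hF : PicF.IsInvertible F) (hGc : Coh.IsCoh G) (hFc : Coh.IsCoh F) :
    ∃ (H : X.Modules) (a : H ⟶ G) (b : H ⟶ F), Coh.IsCoh H ∧
      Function.Bijective (stalkLin a (genericPoint X)) ∧ Function.Bijective (stalkLin b (genericPoint X)) := by
  have hsG := isSimpleModule_stalk hG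
  have hsF := isSimpleModule_stalk hF
  obtain ⟨H, a, b, hH, -, ha, hb⟩ := exists_correspondence_of_simple (genericPoint X) G F hGc hFc hsG
    (by
      intro h
      have := hsF.nontrivial
      exact not_subsingleton (F.presheaf.stalk (genericPoint X)) h)
    (fun z hz _ => (hz.antisymm (genericPoint_specializes z)).eq)
  refine ⟨H, a, b, hH, ha, hb, ?_⟩
  have : Nontrivial (G.presheaf.stalk (genericPoint X)) := hsG.nontrivial
  obtain ⟨g, hg⟩ := exists_ne (0 : G.presheaf.stalk (genericPoint X))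
  obtain ⟨t, rfl⟩ := ha.2 g
  have ht : t ≠ 0 := by rintro rfl; exact hg (map_zero _)
  have h1 : LinearMap.range (stalkLin b (genericPoint X)) = ⊤ := by
    rcases eq_bot_or_eq_top (LinearMap.range (stalkLin b (genericPoint X))) with h | h
    · exfalso
      rw [LinearMap.range_eq_bot] at h
      exact ht (hb (by rw [h, LinearMap.zero_apply, LinearMap.zero_apply]))
    · exact h
  exact LinearMap.range_eq_top.mp h1

end simple

variable (k : Type u) [Field k] {X : Scheme.{u}} [X.Over (Spec (CommRingCat.of k))]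
  [IsProper (X ↘ Spec (CommRingCat.of k))] [IsIntegral X] {L : X.Modules}

/-- `h^i(L^q ⊗ O)`. -/
noncomputable def hq (L : X.Modules) (i q : ℕ) : ℕ :=
  Module.finrank k (Coh.HH X (CohB1.tensorMod (CohB1.tensorPow L q) (Coh.structureModule X)) i)

theorem hq_succ (hL : PicF.IsInvertible L) (hvan : TVan L) :
    ∃ q₀ : ℕ, ∀ q, q₀ ≤ q → ∀ i, 2 ≤ i → hq k L i (q + 1) = hq k L i q := by
  have := IntAdd.isNoetherian k X
  have hO : PicF.IsInvertible (Coh.structureModule X) := isInvertible_structureModule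
  have hOc : Coh.IsCoh (Coh.structureModule X) := CurvesC.UnitCoh.isCoh_unit X
  have hLc : Coh.IsCoh L := HodgeSec.isCoh_of_isInvertible hL
  obtain ⟨H, a, b, hH, ha, hb⟩ := exists_correspondence hO hL hOc hLc
  obtain ⟨q₁, hq₁⟩ := cmp k hL hvan hH hOc a (notMem_support_kernel a _ ha.1) (notMem_support_cokernel a _ ha.2)
  obtain ⟨q₂, hq₂⟩ := cmp k hL hvan hH hLc b (notMem_support_kernel b _ hb.1) (notMem_support_cokernel b _ hb.2)
  refine ⟨max q₁ q₂, fun q hq i hi => ?_⟩
  obtain ⟨e1⟩ := hq₁ q (le_trans (le_max_left _ _) hq) i hi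
  obtain ⟨e2⟩ := hq₂ q (le_trans (le_max_right _ _) hq) i hi
  obtain ⟨j⟩ : Nonempty (CohB1.tensorMod (CohB1.tensorPow L (q + 1)) (Coh.structureModule X) ≅
      CohB1.tensorMod (CohB1.tensorPow L q) L) := by
    rw [← mc_eq_iff, mc_tensor, mc_tensor, mc_tensorPow, mc_tensorPow, mc_one, mul_one, pow_succ]
  unfold K424.NakSec.hq
  rw [(hmapEquiv k X j i).finrank_eq, ← e2.finrank_eq, e1.finrank_eq]

theorem hq_const (hL : PicF.IsInvertible L) (hvan : TVan L) :
    ∃ q₀ : ℕ, ∀ q, q₀ ≤ q → ∀ i, 2 ≤ i → hq k L i q = hq k L i q₀ := by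
  obtain ⟨q₀, h⟩ := hq_succ k hL hvan
  refine ⟨q₀, fun q hq i hi => ?_⟩
  induction q, hq using Nat.le_induction with
  | base => rfl
  | succ q hq ih => rw [h q hq i hi, ih]

/-- A power of `L` with vanishing `h^0` has no nonzero section, contrapositive. -/
theorem exists_section_of_hq (q : ℕ) (h : hq k L 0 q ≠ 0) :
    ∃ s : Coh.structureModule X ⟶ CohB1.tensorPow L q, s ≠ 0 := by
  by_contra hcon
  push Not at hcon
  apply h
  obtain ⟨j⟩ : Nonempty (CohB1.tensorMod (CohB1.tensorPow L q) (Coh.structureModule X) ≅ CohB1.tensorPow L q) := by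
    rw [← mc_eq_iff, mc_tensor, mc_one, mul_one]
  unfold hq
  rw [(hmapEquiv k X j 0).finrank_eq]
  have h1 : ∀ a : Coh.HH X (CohB1.tensorPow L q) 0, a = 0 := by
    intro a
    have h2 : CohqB.KerTrick.h0 (CohB1.tensorPow L q) a = 0 := by
      have h3 := hcon (homOf (CohqB.KerTrick.h0 (CohB1.tensorPow L q) a))
      have h4 : sec (homOf (CohqB.KerTrick.h0 (CohB1.tensorPow L q) a)) ⊤ =
          CohqB.KerTrick.h0 (CohB1.tensorPow L q) a := by
        rw [sec_homOf, res_refl]
      rw [h3] at h4
      exact h4.symm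
    exact (CohqB.KerTrick.h0 (CohB1.tensorPow L q)).injective (h2.trans (map_zero _).symm)
  have : Subsingleton (Coh.HH X (CohB1.tensorPow L q) 0) := ⟨fun a b => (h1 a).trans (h1 b).symm⟩
  exact Module.finrank_zero_of_subsingleton

/-- **Some positive power of `L` has a nonzero section.** -/
theorem exists_section (hL : PicF.IsInvertible L) (hvan : TVan L) (d : ℕ) (hd : topologicalKrullDim X ≤ d) {r : ℕ}
    (hr0 : 0 < r) (hr : topologicalKrullDim X ≤ r)
    (hpos : 0 < inter k X d (Coh.structureModule X) (fun _ : Fin r => mk L hL)) :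
    ∃ (m : ℕ) (s : Coh.structureModule X ⟶ CohB1.tensorPow L (m + 1)), s ≠ 0 := by
  by_contra hcon
  push Not at hcon
  have := IntAdd.isNoetherian k X
  have hOc : Coh.IsCoh (Coh.structureModule X) := CurvesC.UnitCoh.isCoh_unit X
  have h0 : ∀ q, 0 < q → hq k L 0 q = 0 := by
    intro q hq
    by_contra hne
    obtain ⟨m, rfl⟩ : ∃ m, q = m + 1 := ⟨q - 1, by omega⟩
    obtain ⟨s, hs⟩ := exists_section_of_hq k (m + 1) hne
    exact hs (hcon m s)
  obtain ⟨q₀, hq₀⟩ := hq_const k hL hvan
  obtain ⟨a, q₁, ha, hq₁⟩ := NakGrow.exists_lower k d hd hL hOc (r := r)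
    (by
      rw [Pic13.H970.Assembly.support_unit]
      refine le_trans ?_ hr
      exact (Topology.IsInducing.subtypeVal).topologicalKrullDim_le) hpos
  set C : ℤ := ∑ i ∈ Finset.range (d + 1), (hq k L i q₀ : ℤ) with hC
  have hup : ∀ q, 0 < q → q₀ ≤ q →
      FGA.eulerCharLE k X (CohB1.tensorMod (CohB1.tensorPow L q) (Coh.structureModule X)) d ≤ C := by
    intro q hq1 hq2
    unfold FGA.eulerCharLE
    rw [hC]
    refine Finset.sum_le_sum fun i _ => ?_
    change (-1 : ℤ) ^ i * (hq k L i q : ℤ) ≤ _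
    rcases Nat.lt_or_ge i 2 with hi | hi
    · interval_cases i
      · rw [h0 q hq1]; simp
      · have : (0 : ℤ) ≤ hq k L 1 q := Int.natCast_nonneg _
        have h2 : (0 : ℤ) ≤ hq k L 1 q₀ := Int.natCast_nonneg _
        simp only [pow_one]
        linarith
    · rw [hq₀ q hq2 i hi]
      have h2 : (0 : ℤ) ≤ hq k L i q₀ := Int.natCast_nonneg _
      rcases neg_one_pow_eq_or ℤ i with h | h <;> rw [h] <;> linarith
  have hC0 : 0 ≤ C := Finset.sum_nonneg fun i _ => Int.natCast_nonneg _
  obtain ⟨c, hc⟩ := Int.eq_ofNat_of_zero_le hC0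
  let q := a * c + q₀ + q₁ + 1
  have e1 := hq₁ q (by omega)
  have e2 := hup q (by omega) (by omega)
  have e3 : (q : ℤ) ≤ (q : ℤ) ^ r := by
    have : q ≤ q ^ r := Nat.le_self_pow (by omega) q
    exact_mod_cast this
  have e4 : (q : ℤ) ≤ a * c := by
    refine e3.trans (e1.trans ?_)
    rw [← hc]
    exact mul_le_mul_of_nonneg_left e2 (Int.natCast_nonneg _)
  have e5 : q ≤ a * c := by exact_mod_cast e4
  omega

end K424.NakSec
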