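import Groth.Agent.Pic13.H952.Strat
import Groth.Agent.S1025
import Groth.Agent.Variety.K433.HqBase

/-!
# Bounded families have bounded cohomology

* `exists_bound`: `dim H^p(X, M_t)` is bounded over the `k`-points `t` of `T`, `M` coherent on `X ×_k T`.
* `NB k P`: for every class `c` and every `q`, `h^q(F ⊗ c)` is bounded over the members `F` of the family `P`.
* `nb_of_isBounded`.
-/

set_option autoImplicit false
universe u
open CategoryTheory CategoryTheory.Limits AlgebraicGeometry TopologicalSpace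

namespace K424.UnifBdd

open Groth.Agent Groth.Agent.Pic13 Groth.Agent.Pic13.H952 Groth.Agent.Grpsch.PicGrp K433.Hq

variable {k : Type u} [Field k] (X : Scheme.{u}) [X.Over (Spec (CommRingCat.of k))]
  [IsProper (X ↘ Spec (CommRingCat.of k))]

/-- An upper semicontinuous function on a quasi-compact space is bounded. -/
theorem exists_bound_of_isOpen {S : Type*} [TopologicalSpace S] [CompactSpace S] (b : S → ℕ)
    (h : ∀ n, IsOpen {s | b s < n}) : ∃ C, ∀ s, b s ≤ C := by
  obtain ⟨t, ht⟩ := isCompact_univ.elim_finite_subcover (fun n : ℕ => {s | b s < n}) h (fun s _ => by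
    rw [Set.mem_iUnion]; exact ⟨b s + 1, Nat.lt_succ_self _⟩)
  refine ⟨t.sup id, fun s => ?_⟩
  have := ht (Set.mem_univ s)
  simp only [Set.mem_iUnion] at this
  obtain ⟨n, hn, hs⟩ := this
  exact (le_of_lt hs).trans (Finset.le_sup (f := id) hn)

theorem exists_bound {T : Scheme.{u}} (q : T ⟶ Spec (CommRingCat.of k)) [IsNoetherian T]
    (M : (_root_.Pic13.prodK k X q).Modules) (hM : Coh.IsCoh M) (p : ℕ) :
    ∃ C : ℕ, ∀ (t : Spec (CommRingCat.of k) ⟶ T) (ht : t ≫ q = 𝟙 _),
      hh k (_root_.Pic13.fibreMod k X q t ht M) p ≤ C := by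
  obtain ⟨r, S, g, -, hS, hfl, hlift⟩ := Strat.exists_strata X q M hM
  have hfp : LocallyOfFinitePresentation (X ↘ Spec (CommRingCat.of k)) := inferInstance
  have hb : ∀ a, ∃ C : ℕ, ∀ (t : Spec (CommRingCat.of k) ⟶ S a) (ht : t ≫ g a ≫ q = 𝟙 _),
      hh k (_root_.Pic13.fibreMod k X (g a ≫ q) t ht
        ((Scheme.Modules.pullback (H138.Slice.bcT k X q (g a ≫ q) (g a) rfl)).obj M)) p ≤ C := by
    intro a
    have hMa : Coh.IsCoh ((Scheme.Modules.pullback (H138.Slice.bcT k X q (g a ≫ q) (g a) rfl)).obj M) :=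
      FormalB.PullCoh.isCoh_pullback _ hM
    have hN : IsLocallyNoetherian (_root_.Pic13.prodK k X (g a ≫ q)) :=
      LocallyOfFiniteType.isLocallyNoetherian (pullback.snd (X ↘ Spec (CommRingCat.of k)) (g a ≫ q))
    have hsc := S1025.result (pullback.snd (X ↘ Spec (CommRingCat.of k)) (g a ≫ q)) _
      ((Groth.Agent.S0018.result _ _).1 hMa) (hfl a) p
    obtain ⟨C, hC⟩ := exists_bound_of_isOpen _ hsc
    refine ⟨C, fun t ht => ?_⟩
    have h1 := FibrePt.finrank_eq_betti (pullback.snd (X ↘ Spec (CommRingCat.of k)) (g a ≫ q)) t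
      (_root_.Pic13.sliceAt k X (g a ≫ q) t ht) (FibrePt.isPullback_sliceAt X (g a ≫ q) t ht)
      (t (IsLocalRing.closedPoint k)) ⟨_, rfl⟩ _ hMa.1 p
    exact h1.le.trans (hC _)
  choose C hC using hb
  refine ⟨∑ a, C a, fun t ht => ?_⟩
  obtain ⟨a, t', h⟩ := hlift t
  have ht' : t' ≫ g a ≫ q = 𝟙 _ := by rw [← Category.assoc, h, ht]
  have h1 := hC a t' ht'
  rw [hh_iso k (Strat.fibreBcIso q (g a) t ht t' h ht' M)] at h1
  exact h1.trans (Finset.single_le_sum (f := C) (fun _ _ => Nat.zero_le _) (Finset.mem_univ a))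

/-- `h^q(F ⊗ c)` is bounded over the members `F` of `P`, for all classes `c` and all `q`. -/
def NB (k : Type u) [Field k] {X : Scheme.{u}} [X.Over (Spec (CommRingCat.of k))] (P : X.Modules → Prop) : Prop :=
  ∀ (c : Pic X) (q : ℕ), ∃ C : ℕ, ∀ F, P F → hq k q F c ≤ C

/-- `(M ⊗ pr₁^*N)_t ≅ M_t ⊗ N`. -/
theorem nonempty_slice_tensor {T : Scheme.{u}} (q : T ⟶ Spec (CommRingCat.of k)) (t : Spec (CommRingCat.of k) ⟶ T)
    (ht : t ≫ q = 𝟙 _) (M : (_root_.Pic13.prodK k X q).Modules) {N : X.Modules} (hN : PicF.IsInvertible N) :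
    Nonempty (_root_.Pic13.fibreMod k X q t ht (CohB1.tensorMod M
        ((Scheme.Modules.pullback (pullback.fst (X ↘ Spec (CommRingCat.of k)) q)).obj N)) ≅
      CohB1.tensorMod (_root_.Pic13.fibreMod k X q t ht M) N) := by
  have e1 := CohqB.PullTwist471.pullTensorIsoRight (_root_.Pic13.sliceAt k X q t ht)
    (CohqB.PullTwist471.hasBases_of_isInvertible (Fdesc.LocGen.isInvertible_pullback
      (pullback.fst (X ↘ Spec (CommRingCat.of k)) q) hN)) M
  have e2 : (Scheme.Modules.pullback (_root_.Pic13.sliceAt k X q t ht)).obj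
      ((Scheme.Modules.pullback (pullback.fst (X ↘ Spec (CommRingCat.of k)) q)).obj N) ≅ N :=
    (Scheme.Modules.pullbackComp (_root_.Pic13.sliceAt k X q t ht)
      (pullback.fst (X ↘ Spec (CommRingCat.of k)) q)).app N ≪≫
      (Scheme.Modules.pullbackCongr (H138.Slice.sliceAt_fst k X q t ht)).app N ≪≫
      (Scheme.Modules.pullbackId X).app N
  exact ⟨e1 ≪≫ Ega2.Tens.mapTIso (Iso.refl _) e2⟩

theorem nb_of_isBounded {P : X.Modules → Prop} (h : _root_.Pic13.IsBounded k X P) : NB k P := by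
  intro c p
  obtain ⟨T, q, hq1, hq2, M, hM, hfam⟩ := h
  have hT1 : IsLocallyNoetherian T := LocallyOfFiniteType.isLocallyNoetherian q
  have hT2 : CompactSpace T := QuasiCompact.compactSpace_of_compactSpace q
  have hT : IsNoetherian T := { }
  have hN : IsLocallyNoetherian (_root_.Pic13.prodK k X q) :=
    LocallyOfFiniteType.isLocallyNoetherian (pullback.snd (X ↘ Spec (CommRingCat.of k)) q)
  have hr := rep_inv c
  obtain ⟨C, hC⟩ := exists_bound X q (CohB1.tensorMod M
    ((Scheme.Modules.pullback (pullback.fst (X ↘ Spec (CommRingCat.of k)) q)).obj (rep c)))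
    (Fga.TwistCoh.isCoh_tensor hM (Fdesc.LocGen.isInvertible_pullback _ hr)) p
  refine ⟨C, fun F hF => ?_⟩
  obtain ⟨t, ht, ⟨e⟩⟩ := hfam F hF
  have h1 := hC t ht
  obtain ⟨e2⟩ := nonempty_slice_tensor X q t ht M hr
  rw [hh_iso k (e2 ≪≫ Ega2.Tens.mapTIso e (Iso.refl _))] at h1
  exact h1

end K424.UnifBdd
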