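import Groth.Agent.Variety.K424.UnifBdd
import Groth.Agent.Variety.K433.GrowthRank
import Groth.Agent.Variety.K433.GenFinite
import Groth.Agent.S2329

/-!
# Growth of cohomology, uniformly in bounded families of coherent modules

`X` proper over an infinite field `k` with an ample module.
* `exists_diff_unif`: for a class `g` there is one class `b` such that for every coherent `F` with
  `dim Supp F < e + 1` the groups `h^q(F ⊗ g ⊗ c)` and `h^q(F ⊗ c)` differ by the cohomology of `G₁ ⊗ c`, `G₂ ⊗ c`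
  with `dim Supp Gᵢ < e`, and the cohomology of twists of `G₁`, `G₂` is bounded by that of `F` twisted by fixed classes.
* `growth`: for a family `P` of coherent modules with `NB k P` and `dim Supp F < e` for all members,
  `h^q(F ⊗ g^m) ≤ C phi e m` with one constant `C` for all members and all `m`.
-/

set_option autoImplicit false
universe u
open CategoryTheory CategoryTheory.Limits AlgebraicGeometry TopologicalSpace

namespace K424.UnifGrowth

open Groth.Agent Groth.Agent.Ega2 Groth.Agent.Fdesc.LocGen Groth.Agent.Fga.RegSec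
open Groth.Agent.CohqB.SerTw Groth.Agent.Grpsch.PicGrp K433.Hq K433.Growth K424.UnifBdd
open Groth.Agent.Pic13.H946.Core (cokSeq cokSeq_shortExact finrank_congr support_tw)

variable {X : Scheme.{u}} (k : Type u) [Field k] [X.Over (Spec (CommRingCat.of k))]
  [IsProper (X ↘ Spec (CommRingCat.of k))]

/-- The cokernel of the multiplication by a section generating at the associated points and at the generic points
of the support. -/
theorem cok_data {B : X.Modules} (hB : PicF.IsInvertible B) (s : Coh.structureModule X ⟶ B)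
    {F : X.Modules} (hF : Coh.IsCoh F) (hAss : AssSch.Ass F ⊆ CohB1.genLocus B s) :
    Coh.IsCoh (cokernel (mulS s F)) ∧ CohB1.support (cokernel (mulS s F)) = CohB1.support F \ CohB1.genLocus B s ∧
      ∀ (q : ℕ) (c : Pic X), Near (hq k q F (mk B hB * c)) (hq k q F c)
        (hq k (q - 1) (cokernel (mulS s F)) c + hq k q (cokernel (mulS s F)) c) ∧
        hq k q (cokernel (mulS s F)) c ≤ hq k q F (mk B hB * c) + hq k (q + 1) F c := by
  have := Fga.HypSec.isNoetherian k X
  have hBF : Coh.IsCoh (CohB1.tensorMod B F) :=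
    Sga67.CohBasic.isCoh_of_iso (Ega2.Tens.swap F _) (Fga.TwistCoh.isCoh_tensor hF hB)
  have hmono : Mono (mulS s F) := mulS_mono s F hF (Sga67.CohBasic.isCoh_kernel _ hF hBF.1).1 hAss
  have hC : Coh.IsCoh (cokernel (mulS s F)) := isCoh_cokernel (mulS s F) hF.1 hBF
  refine ⟨hC, support_cokernel_mulS s F hB hF.2, fun q c => ?_⟩
  have e : hq k q (cokSeq (mulS s F)).X₂ c = hq k q F (mk B hB * c) := hq_tensor' k q F hB c
  have h := near_left k (cokSeq_shortExact (mulS s F)) hF hBF hC q c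
  have h2 := hq_right_le k (cokSeq_shortExact (mulS s F)) hF hBF hC q c
  rw [e] at h h2
  exact ⟨h.symm, h2⟩

/-- Twisting by a fixed class changes the cohomology by the cohomology of modules of smaller support, uniformly. -/
theorem exists_diff_unif [Infinite k] {A : X.Modules} (hA : CohB1.IsAmple A) (g : Pic X) :
    ∃ b : Pic X, ∀ {F : X.Modules} (_ : Coh.IsCoh F) {e : ℕ} (_ : DimLT (𝟙 X) (e + 1) F),
    ∃ G₁ G₂ : X.Modules, Coh.IsCoh G₁ ∧ Coh.IsCoh G₂ ∧ DimLT (𝟙 X) e G₁ ∧ DimLT (𝟙 X) e G₂ ∧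
      (∀ (q : ℕ) (c : Pic X), Near (hq k q F (g * c)) (hq k q F c)
        ((hq k (q - 1) G₁ c + hq k q G₁ c) + (hq k (q - 1) G₂ c + hq k q G₂ c))) ∧
      (∀ (q : ℕ) (c : Pic X), hq k q G₁ c ≤ hq k q F (g * c) + hq k (q + 1) F (b * c)) ∧
      ∀ (q : ℕ) (c : Pic X), hq k q G₂ c ≤ hq k q F c + hq k (q + 1) F (b * c) := by
  have := Fga.HypSec.isNoetherian k X
  have := Fga.HypSec.isSeparated k X
  obtain ⟨L, hL, rfl⟩ := exists_mk g
  obtain ⟨n₁, -, h₁⟩ := S2329.result X A L hA hL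
  obtain ⟨n₂, -, h₂⟩ := S2329.result X A _ hA (isInvertible_structureModule (X := X))
  have hAn : PicF.IsInvertible (CohB1.tensorPow A (max n₁ n₂)) := isInvertible_tensorPow hA.1 _
  have hB : PicF.IsInvertible (CohB1.tensorMod (CohB1.tensorPow A (max n₁ n₂)) (Coh.structureModule X)) :=
    isInvertible_tensorMod hAn isInvertible_structureModule
  have hB' : PicF.IsInvertible (CohB1.tensorMod (CohB1.tensorPow A (max n₁ n₂)) L) := isInvertible_tensorMod hAn hL
  have hgB := (h₂ _ (le_max_right n₁ n₂)).2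
  have hgB' := (h₁ _ (le_max_left n₁ n₂)).2
  set b : Pic X := mk _ hB with hb
  set b' : Pic X := mk _ hB' with hb'
  have hbb : b' = mk L hL * b := by
    rw [hb, hb', ← mk_mul_mk hAn isInvertible_structureModule, ← mk_mul_mk hAn hL]
    have : mk (Coh.structureModule X) isInvertible_structureModule = 1 := rfl
    rw [this, mul_one, mul_comm]
  refine ⟨b⁻¹, fun {F} hF {e} he => ?_⟩
  set T : Set X := CohB1.support F with hTdef
  have hTn : NoetherianSpace T := inferInstance
  have hcomp : (irreducibleComponents T).Finite := NoetherianSpace.finite_irreducibleComponents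
  have hfc : Finite (irreducibleComponents T) := hcomp
  have hch : ∀ Z : irreducibleComponents T, ∃ z : T, z ∈ Z.1 := fun Z => Z.2.1.nonempty
  choose z hz using hch
  have hfin : (AssSch.Ass F ∪ Set.range fun Z => (z Z : X)).Finite :=
    (Fdesc.SubFilt.finite_ass hF).union (Set.finite_range _)
  obtain ⟨s, hZ⟩ := K433.GenFinite.exists_gen_finite k hB hgB _ hfin
  obtain ⟨s', hZ'⟩ := K433.GenFinite.exists_gen_finite k hB' hgB' _ hfin
  have he' : topologicalKrullDim T < ((e + 1 : ℕ) : WithBot ℕ∞) := dimLT_id_iff.mp he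
  have hdim : ∀ {N : X.Modules} (t : Coh.structureModule X ⟶ N),
      (AssSch.Ass F ∪ Set.range fun Z => (z Z : X)) ⊆ CohB1.genLocus N t →
      ∀ G : X.Modules, CohB1.support G = CohB1.support F \ CohB1.genLocus _ t → DimLT (𝟙 X) e G := by
    intro N t ht G hG
    rw [dimLT_id_iff, hG]
    refine dim_diff_lt (CohB1.genLocus N t : Set X) (CohB1.genLocus N t).isOpen ?_ he'
    intro Z' hZ'
    exact ⟨z ⟨Z', hZ'⟩, hz ⟨Z', hZ'⟩, ht (Or.inr ⟨⟨Z', hZ'⟩, rfl⟩)⟩
  obtain ⟨hC, hCs, hn⟩ := cok_data k hB s hF (fun y hy => hZ (Or.inl hy))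
  obtain ⟨hC', hCs', hn'⟩ := cok_data k hB' s' hF (fun y hy => hZ' (Or.inl hy))
  refine ⟨CohB1.tensorMod (cokernel (mulS s' F)) (rep b⁻¹),
    CohB1.tensorMod (cokernel (mulS s F)) (rep b⁻¹), Fga.TwistCoh.isCoh_tensor hC' (rep_inv _),
    Fga.TwistCoh.isCoh_tensor hC (rep_inv _), (hdim s' hZ' _ hCs').tensor (rep_inv _),
    (hdim s hZ _ hCs).tensor (rep_inv _), fun q c => ?_, fun q c => ?_, fun q c => ?_⟩
  · have h1 := (hn' q (b⁻¹ * c)).1
    have h2 := (hn q (b⁻¹ * c)).1
    rw [← hb', hbb] at h1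
    rw [← hb] at h2
    rw [mul_assoc, mul_inv_cancel_left] at h1
    rw [mul_inv_cancel_left] at h2
    rw [hq_tensor k _ _ (rep_inv _), hq_tensor k _ _ (rep_inv _), hq_tensor k _ _ (rep_inv _),
      hq_tensor k _ _ (rep_inv _), mk_rep]
    exact h1.trans h2.symm
  · have h1 := (hn' q (b⁻¹ * c)).2
    rw [← hb', hbb, mul_assoc, mul_inv_cancel_left] at h1
    rw [hq_tensor k _ _ (rep_inv _), mk_rep]
    exact h1
  · have h1 := (hn q (b⁻¹ * c)).2
    rw [← hb, mul_inv_cancel_left] at h1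
    rw [hq_tensor k _ _ (rep_inv _), mk_rep]
    exact h1

/-- **Growth theorem**, uniform in a family of coherent modules. -/
theorem growth [Infinite k] {A : X.Modules} (hA : CohB1.IsAmple A) (g : Pic X) (e : ℕ) :
    ∀ (P : X.Modules → Prop) (_ : ∀ F, P F → Coh.IsCoh F) (_ : ∀ F, P F → DimLT (𝟙 X) e F) (_ : NB k P) (c : Pic X)
      (q : ℕ), ∃ C : ℕ, ∀ F, P F → ∀ m : ℕ, hq k q F (g ^ m * c) ≤ C * phi e m := by
  induction e with
  | zero =>
    intro P hP he hb c q
    exact ⟨0, fun F hF m => by rw [hq_eq_zero k q (dimLT_zero_iff.mp (he F hF))]; exact Nat.zero_le _⟩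
  | succ e ih =>
    intro P hP he hb c q
    obtain ⟨b, hdiff⟩ := exists_diff_unif k hA g
    let P' : X.Modules → Prop := fun G => Coh.IsCoh G ∧ DimLT (𝟙 X) e G ∧ ∃ F, P F ∧ ∀ (q : ℕ) (c : Pic X),
      hq k q G c ≤ (hq k q F (g * c) + hq k q F c) + hq k (q + 1) F (b * c)
    have hb' : NB k P' := by
      intro c q
      obtain ⟨C₁, h₁⟩ := hb (g * c) q
      obtain ⟨C₂, h₂⟩ := hb c q
      obtain ⟨C₃, h₃⟩ := hb (b * c) (q + 1)
      refine ⟨(C₁ + C₂) + C₃, ?_⟩
      rintro G ⟨-, -, F, hF, h⟩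
      exact (h q c).trans (Nat.add_le_add (Nat.add_le_add (h₁ F hF) (h₂ F hF)) (h₃ F hF))
    obtain ⟨C₁, hC₁⟩ := ih P' (fun _ h => h.1) (fun _ h => h.2.1) hb' c (q - 1)
    obtain ⟨C₂, hC₂⟩ := ih P' (fun _ h => h.1) (fun _ h => h.2.1) hb' c q
    obtain ⟨C₀, hC₀⟩ := hb c q
    refine ⟨C₀ + ((C₁ + C₂) + (C₁ + C₂)), fun F hF m => ?_⟩
    obtain ⟨G₁, G₂, hc₁, hc₂, hd₁, hd₂, hnear, hle₁, hle₂⟩ := hdiff (hP F hF) (he F hF)
    have hG₁ : P' G₁ := ⟨hc₁, hd₁, F, hF, fun q c => (hle₁ q c).trans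
      (Nat.add_le_add_right (Nat.le_add_right _ _) _)⟩
    have hG₂ : P' G₂ := ⟨hc₂, hd₂, F, hF, fun q c => (hle₂ q c).trans
      (Nat.add_le_add_right (Nat.le_add_left _ _) _)⟩
    set D : ℕ := (C₁ + C₂) + (C₁ + C₂) with hD
    have key : ∀ m : ℕ, hq k q F (g ^ m * c) ≤ C₀ + m * (D * phi e m) := by
      intro m
      induction m with
      | zero => simpa using hC₀ F hF
      | succ m ih' =>
        have h1 := (hnear q (g ^ m * c)).1
        rw [← mul_assoc, ← pow_succ'] at h1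
        refine h1.trans ?_
        have h2 : (hq k (q - 1) G₁ (g ^ m * c) + hq k q G₁ (g ^ m * c)) +
            (hq k (q - 1) G₂ (g ^ m * c) + hq k q G₂ (g ^ m * c)) ≤ D * phi e m := by
          refine le_trans (Nat.add_le_add (Nat.add_le_add (hC₁ _ hG₁ m) (hC₂ _ hG₁ m))
            (Nat.add_le_add (hC₁ _ hG₂ m) (hC₂ _ hG₂ m))) ?_
          rw [← add_mul, ← add_mul]
        have h3 : D * phi e m ≤ D * phi e (m + 1) := Nat.mul_le_mul_left _ (phi_mono_right e (Nat.le_succ _))
        calc _ ≤ (C₀ + m * (D * phi e m)) + D * phi e m := Nat.add_le_add ih' h2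
          _ ≤ (C₀ + m * (D * phi e (m + 1))) + D * phi e (m + 1) :=
            Nat.add_le_add (Nat.add_le_add_left (Nat.mul_le_mul_left _ h3) _) h3
          _ = _ := by ring
    refine (key m).trans ?_
    rw [add_mul C₀ D]
    refine Nat.add_le_add (Nat.le_mul_of_pos_right _ (one_le_phi_succ _ _)) ?_
    calc m * (D * phi e m) = D * (m * phi e m) := by ring
      _ ≤ _ := Nat.mul_le_mul_left _ (mul_phi_le e _)

end K424.UnifGrowth
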